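import Mathlib.GroupTheory.QuotientGroup.Basic
import Mathlib.Tactic.Group
import Mathlib.GroupTheory.Commutator.Basic
import Mathlib.Algebra.Field.Basic
import Mathlib.LinearAlgebra.FreeModule.Finite.Matrix
import Mathlib.LinearAlgebra.Dimension.Constructions
import Mathlib.LinearAlgebra.FiniteDimensional.Basic

/-!
# The commutator pairing of a class 2 section, and twisted families of linear maps

* `commPairing` : `(M/A) × (M/A) → Kˣ`, `(x, y) ↦ χ ⁅x, y⁆`.
* `linearIndependent_of_twisted` : invertible maps with `L_y L_i = χ y i • L_i L_y`, where the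
  characters `χ · i` separate the indices, are linearly independent.
-/

set_option autoImplicit false
set_option linter.unusedSectionVars false

namespace Cfsg.Agent.SolvableTransitive

open scoped commutatorElement

universe u v w

variable {G : Type u} [Group G] {K : Type v} [Field K] (A M : Subgroup G) [A.Normal]
  (χ : ↥A →* Kˣ) (hcomm : ∀ x ∈ M, ∀ y ∈ M, ⁅x, y⁆ ∈ A) (hcen : ∀ a ∈ A, ∀ x ∈ M, x * a = a * x)

/-- The pairing before passing to the quotient. -/
def commValue (x : ↥M) : ↥M →* Kˣ where
  toFun y := χ ⟨⁅(x : G), (y : G)⁆, hcomm _ x.2 _ y.2⟩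
  map_one' := by
    rw [← map_one χ]
    exact congrArg χ (Subtype.ext (commutatorElement_one_right _))
  map_mul' y y' := by
    rw [← map_mul]
    refine congrArg χ (Subtype.ext ?_)
    show ⁅(x : G), (y : G) * y'⁆ = ⁅(x : G), (y : G)⁆ * ⁅(x : G), (y' : G)⁆
    have h := hcen _ (hcomm _ x.2 _ y'.2) _ y.2
    calc ⁅(x : G), (y : G) * y'⁆ = ⁅(x : G), (y : G)⁆ * ((y : G) * ⁅(x : G), (y' : G)⁆ * (y : G)⁻¹) := by
          simp only [commutatorElement_def]; group
      _ = _ := by rw [h, mul_inv_cancel_right]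

/-- The pairing, in its first variable. -/
def commValueHom : ↥M →* (↥M →* Kˣ) where
  toFun := commValue A M χ hcomm hcen
  map_one' := MonoidHom.ext fun y => by
    show χ ⟨⁅((1 : ↥M) : G), (y : G)⁆, _⟩ = 1
    rw [← map_one χ]
    exact congrArg χ (Subtype.ext (commutatorElement_one_left _))
  map_mul' x x' := MonoidHom.ext fun y => by
    show χ ⟨⁅((x * x' : ↥M) : G), (y : G)⁆, _⟩ = χ ⟨⁅(x : G), (y : G)⁆, _⟩ * χ ⟨⁅(x' : G), (y : G)⁆, _⟩
    rw [← map_mul]
    refine congrArg χ (Subtype.ext ?_)
    show ⁅(x : G) * x', (y : G)⁆ = ⁅(x : G), (y : G)⁆ * ⁅(x' : G), (y : G)⁆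
    have h := hcen _ (hcomm _ x'.2 _ y.2) _ x.2
    calc ⁅(x : G) * x', (y : G)⁆ = ((x : G) * ⁅(x' : G), (y : G)⁆ * (x : G)⁻¹) * ⁅(x : G), (y : G)⁆ := by
          simp only [commutatorElement_def]; group
      _ = ⁅(x' : G), (y : G)⁆ * ⁅(x : G), (y : G)⁆ := by rw [h, mul_inv_cancel_right]
      _ = _ := by
          have hM : ⁅(x : G), (y : G)⁆ ∈ M := by
            rw [commutatorElement_def]
            exact M.mul_mem (M.mul_mem (M.mul_mem x.2 y.2) (M.inv_mem x.2)) (M.inv_mem y.2)
          exact (hcen _ (hcomm _ x'.2 _ y.2) _ hM).symm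

include hcen in
theorem commutator_eq_one_of_mem {x y : G} (hx : x ∈ A) (hy : y ∈ M) : ⁅x, y⁆ = 1 :=
  commutatorElement_eq_one_iff_mul_comm.mpr (hcen x hx y hy).symm

/-- The commutator pairing on `M / A`. -/
def commPairing : (↥M ⧸ A.subgroupOf M) →* (↥M ⧸ A.subgroupOf M) →* Kˣ :=
  QuotientGroup.lift (A.subgroupOf M)
    { toFun := fun x => QuotientGroup.lift (A.subgroupOf M) (commValueHom A M χ hcomm hcen x) (by
        intro y hy
        rw [MonoidHom.mem_ker]
        show χ ⟨⁅(x : G), (y : G)⁆, _⟩ = 1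
        rw [← map_one χ]
        exact congrArg χ (Subtype.ext (by
          show ⁅(x : G), (y : G)⁆ = 1
          rw [← commutatorElement_inv,
            commutator_eq_one_of_mem A M hcen (Subgroup.mem_subgroupOf.mp hy) x.2, inv_one])))
      map_one' := MonoidHom.ext fun w => by
        obtain ⟨y, rfl⟩ := QuotientGroup.mk_surjective w
        exact DFunLike.congr_fun (map_one (commValueHom A M χ hcomm hcen)) y
      map_mul' := fun x x' => MonoidHom.ext fun w => by
        obtain ⟨y, rfl⟩ := QuotientGroup.mk_surjective w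
        exact DFunLike.congr_fun (map_mul (commValueHom A M χ hcomm hcen) x x') y }
    (by
      intro x hx
      rw [MonoidHom.mem_ker]
      refine MonoidHom.ext fun w => ?_
      obtain ⟨y, rfl⟩ := QuotientGroup.mk_surjective w
      show χ ⟨⁅(x : G), (y : G)⁆, _⟩ = 1
      rw [← map_one χ]
      exact congrArg χ (Subtype.ext (commutator_eq_one_of_mem A M hcen hx y.2)))

theorem commPairing_mk (x y : ↥M) :
    commPairing A M χ hcomm hcen (QuotientGroup.mk x) (QuotientGroup.mk y) =
      χ ⟨⁅(x : G), (y : G)⁆, hcomm _ x.2 _ y.2⟩ := rfl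

/-- A twisted family of invertible linear maps is linearly independent. -/
theorem linearIndependent_of_twisted {V : Type w} [AddCommGroup V] [Module K V] [Nontrivial V]
    [FiniteDimensional K V] {ι : Type u} (L : ι → Module.End K V)
    (hinj : ∀ i, Function.Injective (L i)) (c : ι → ι → K)
    (hrel : ∀ y i, L y * L i = c y i • (L i * L y)) (hsep : ∀ i i', i ≠ i' → ∃ y, c y i ≠ c y i') :
    LinearIndependent K L := by
  classical
  rw [linearIndependent_iff']
  intro s
  induction s using Finset.induction_on with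
  | empty => simp
  | insert i₀ s hi₀ ih =>
    intro a hsum i hi
    have hrest : ∀ i ∈ s, a i = 0 := by
      intro i₁ hi₁
      obtain ⟨y, hy⟩ := hsep i₁ i₀ (fun h => hi₀ (h ▸ hi₁))
      have h1 : (∑ i ∈ insert i₀ s, (a i * c y i) • L i) = 0 := by
        have h2 : L y * ∑ i ∈ insert i₀ s, a i • L i = (∑ i ∈ insert i₀ s, (a i * c y i) • L i) * L y := by
          rw [Finset.mul_sum, Finset.sum_mul]
          refine Finset.sum_congr rfl fun i _ => ?_
          rw [mul_smul_comm, hrel, smul_smul, smul_mul_assoc]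
        rw [hsum, mul_zero] at h2
        refine LinearMap.ext fun v => ?_
        obtain ⟨w, rfl⟩ := LinearMap.injective_iff_surjective.mp (hinj y) v
        exact (LinearMap.congr_fun h2 w).symm
      have h3 : (∑ i ∈ s, (a i * (c y i - c y i₀)) • L i) = 0 := by
        have h4 : (∑ i ∈ insert i₀ s, (a i * c y i) • L i) -
            c y i₀ • ∑ i ∈ insert i₀ s, a i • L i = 0 := by rw [h1, hsum, smul_zero, sub_zero]
        rw [Finset.smul_sum, ← Finset.sum_sub_distrib, Finset.sum_insert hi₀] at h4
        rw [show (a i₀ * c y i₀) • L i₀ - c y i₀ • a i₀ • L i₀ = 0 by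
          rw [smul_smul, mul_comm, sub_self], zero_add] at h4
        rw [← h4]
        refine Finset.sum_congr rfl fun i _ => ?_
        rw [mul_sub, sub_smul, smul_smul, mul_comm (c y i₀)]
      have h5 := ih (fun i => a i * (c y i - c y i₀)) h3 i₁ hi₁
      exact (mul_eq_zero.mp h5).resolve_right (sub_ne_zero.mpr hy)
    rcases Finset.mem_insert.mp hi with rfl | hi'
    · rw [Finset.sum_insert hi₀, Finset.sum_eq_zero (fun j hj => by rw [hrest j hj, zero_smul]),
        add_zero] at hsum
      obtain ⟨v, hv⟩ := exists_ne (0 : V)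
      have h := LinearMap.congr_fun hsum v
      rw [LinearMap.smul_apply, LinearMap.zero_apply, smul_eq_zero] at h
      exact h.resolve_right fun h0 => hv (hinj i (h0.trans (map_zero _).symm))
    · exact hrest i hi'

end Cfsg.Agent.SolvableTransitive
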