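import Mathlib.GroupTheory.Solvable
import Mathlib.GroupTheory.OrderOfElement
import Mathlib.Data.Nat.Prime.Basic
import Mathlib.Order.Preorder.Finite
import Mathlib.Algebra.Group.Subgroup.Finite
import Mathlib.Data.SetLike.Fintype
import Mathlib.GroupTheory.QuotientGroup.Basic
import Mathlib.GroupTheory.Subgroup.Centralizer
import Mathlib.GroupTheory.Commutator.Basic

/-!
# A class 2 section over a maximal abelian normal subgroup of a solvable group

* `exists_maximal_abelian_normal` : a maximal abelian normal subgroup exists.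
* `exists_section` : if `A < C(A)`, there is a normal `M` above `A`, central over `A`, with `M/A`
  elementary abelian and `A` the centre of `M`.
-/

set_option autoImplicit false

namespace Cfsg.Agent.SolvableTransitive

open scoped commutatorElement

universe u

variable {G : Type u} [Group G] [Finite G]

theorem exists_maximal_abelian_normal :
    ∃ A : Subgroup G, A.Normal ∧ IsMulCommutative ↥A ∧
      ∀ B : Subgroup G, B.Normal → (∀ x ∈ B, ∀ y ∈ B, x * y = y * x) → A ≤ B → B = A := by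
  obtain ⟨A, ⟨hA, hAc⟩, hmax⟩ := (Set.toFinite
    {B : Subgroup G | B.Normal ∧ ∀ x ∈ B, ∀ y ∈ B, x * y = y * x}).exists_maximal
      ⟨⊥, inferInstance, fun x hx y hy => by
        rw [Subgroup.mem_bot.mp hx, Subgroup.mem_bot.mp hy]⟩
  exact ⟨A, hA, ⟨⟨fun a b => Subtype.ext (hAc a a.2 b b.2)⟩⟩,
    fun B hB hBc hle => le_antisymm (hmax ⟨hB, hBc⟩ hle) hle⟩

theorem exists_section (hsol : Group.IsSolvable G) {A : Subgroup G} [A.Normal]
    (hA : IsMulCommutative ↥A)
    (hmax : ∀ B : Subgroup G, B.Normal → (∀ x ∈ B, ∀ y ∈ B, x * y = y * x) → A ≤ B → B = A)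
    (hC : Subgroup.centralizer (A : Set G) ≠ A) :
    ∃ (p : ℕ) (M : Subgroup G), p.Prime ∧ M.Normal ∧ A ≤ M ∧ M ≠ A ∧
      M ≤ Subgroup.centralizer (A : Set G) ∧ (∀ x ∈ M, x ^ p ∈ A) ∧
      (∀ x ∈ M, ∀ y ∈ M, ⁅x, y⁆ ∈ A) ∧ ∀ x ∈ M, (∀ y ∈ M, x * y = y * x) → x ∈ A := by
  classical
  set C := Subgroup.centralizer (A : Set G) with hCdef
  have hAC : A ≤ C := fun a ha b hb => congrArg Subtype.val (hA.is_comm.comm (⟨b, hb⟩ : ↥A) ⟨a, ha⟩)
  have hlt : A < C := lt_of_le_of_ne hAC (Ne.symm hC)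
  obtain ⟨M, ⟨hM, hAM, hMC⟩, hmin⟩ := (Set.toFinite
    {B : Subgroup G | B.Normal ∧ A < B ∧ B ≤ C}).exists_minimal ⟨C, inferInstance, hlt, le_rfl⟩
  -- `M / A` is abelian
  have hcomm : ∀ x ∈ M, ∀ y ∈ M, ⁅x, y⁆ ∈ A := by
    have hle : ⁅M, M⁆ ⊔ A ≤ M := sup_le (Subgroup.commutator_le_left M M) hAM.le
    by_cases hD : A < ⁅M, M⁆ ⊔ A
    · exfalso
      have hM' : M ≤ ⁅M, M⁆ ⊔ A := hmin ⟨inferInstance, hD, hle.trans hMC⟩ hle
      have hperf : M.map (QuotientGroup.mk' A) ≤
          ⁅M.map (QuotientGroup.mk' A), M.map (QuotientGroup.mk' A)⁆ := by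
        refine le_trans (Subgroup.map_mono hM') (le_of_eq ?_)
        rw [Subgroup.map_sup, QuotientGroup.map_mk'_self, sup_bot_eq, Subgroup.map_commutator]
      obtain ⟨k, hk⟩ := (inferInstance : Group.IsSolvable (G ⧸ A)).solvable
      have hall : ∀ k, M.map (QuotientGroup.mk' A) ≤ derivedSeries (G ⧸ A) k := by
        intro k
        induction k with
        | zero => exact le_top
        | succ k ih => exact hperf.trans (Subgroup.commutator_mono ih ih)
      have h := hall k
      rw [hk, le_bot_iff, Subgroup.map_eq_bot_iff, QuotientGroup.ker_mk'] at h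
      exact hAM.not_ge h
    · intro x hx y hy
      have h : A = ⁅M, M⁆ ⊔ A := eq_of_le_of_not_lt le_sup_right hD
      rw [h]
      exact Subgroup.mem_sup_left (Subgroup.commutator_mem_commutator hx hy)
  -- a prime `p` with an element of order `p` modulo `A`
  obtain ⟨x₀, hx₀, hx₀A⟩ := SetLike.exists_of_lt hAM
  have hne : orderOf (QuotientGroup.mk' A x₀) ≠ 1 := fun h =>
    hx₀A ((QuotientGroup.eq_one_iff _).mp (orderOf_eq_one_iff.mp h))
  obtain ⟨p, hp, k, hk⟩ := Nat.exists_prime_and_dvd hne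
  -- the elements of exponent `p` modulo `A`
  let P : Subgroup G :=
    { carrier := {x | x ∈ M ∧ x ^ p ∈ A}
      one_mem' := ⟨M.one_mem, by rw [one_pow]; exact A.one_mem⟩
      mul_mem' := fun {a b} ha hb => ⟨M.mul_mem ha.1 hb.1, by
        have hc : Commute (QuotientGroup.mk' A a) (QuotientGroup.mk' A b) :=
          commutatorElement_eq_one_iff_mul_comm.mp (by
            rw [← map_commutatorElement]
            exact (QuotientGroup.eq_one_iff _).mpr (hcomm a ha.1 b hb.1))
        refine (QuotientGroup.eq_one_iff _).mp ?_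
        show QuotientGroup.mk' A ((a * b) ^ p) = 1
        rw [map_pow, map_mul, hc.mul_pow, ← map_pow, ← map_pow,
          show QuotientGroup.mk' A (a ^ p) = 1 from (QuotientGroup.eq_one_iff _).mpr ha.2,
          show QuotientGroup.mk' A (b ^ p) = 1 from (QuotientGroup.eq_one_iff _).mpr hb.2, one_mul]⟩
      inv_mem' := fun {a} ha => ⟨M.inv_mem ha.1, by rw [inv_pow]; exact A.inv_mem ha.2⟩ }
  have hPn : P.Normal := ⟨fun n hn g => ⟨hM.conj_mem n hn.1 g, by
    rw [conj_pow]
    exact (inferInstance : A.Normal).conj_mem _ hn.2 g⟩⟩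
  have hPM : P ≤ M := fun x hx => hx.1
  have hAP : A < P := by
    refine SetLike.lt_iff_le_and_exists.mpr ⟨fun a ha => ⟨hAM.le ha, A.pow_mem ha _⟩,
      x₀ ^ k, ⟨M.pow_mem hx₀ k, ?_⟩, fun h => ?_⟩
    · refine (QuotientGroup.eq_one_iff _).mp ?_
      show QuotientGroup.mk' A ((x₀ ^ k) ^ p) = 1
      rw [map_pow, map_pow, ← pow_mul, mul_comm, ← hk]
      exact pow_orderOf_eq_one _
    · have h1 : QuotientGroup.mk' A x₀ ^ k = 1 := by
        rw [← map_pow]
        exact (QuotientGroup.eq_one_iff _).mpr h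
      have hk0 : 0 < k := Nat.pos_of_ne_zero fun h0 => by
        rw [h0, mul_zero] at hk
        exact (orderOf_pos (QuotientGroup.mk' A x₀)).ne' hk
      have h2 := orderOf_le_of_pow_eq_one hk0 h1
      rw [hk] at h2
      have := Nat.mul_le_mul_right k hp.two_le
      omega
  refine ⟨p, M, hp, hM, hAM.le, hAM.ne', hMC, fun x hx => (hmin ⟨hPn, hAP, hPM.trans hMC⟩ hPM hx).2,
    hcomm, fun x hx hxc => ?_⟩
  have hZ := hmax (M ⊓ Subgroup.centralizer (M : Set G)) inferInstance
    (fun a ha b hb => hb.2 a ha.1) (le_inf hAM.le fun a ha y hy => (hMC hy a ha).symm)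
  rw [← hZ]
  exact ⟨hx, fun y hy => (hxc y hy).symm⟩

end Cfsg.Agent.SolvableTransitive
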