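import Mathlib.Algebra.Module.Hom
import Mathlib.Algebra.Ring.Subring.Basic
import Mathlib.FieldTheory.Finite.GaloisField
import Mathlib.GroupTheory.Subgroup.Centralizer
import Mathlib.GroupTheory.Commutator.Basic
import Mathlib.GroupTheory.Coset.Card
import Mathlib.RingTheory.IntegralDomain

/-!
# The field spanned by an abelian normal subgroup of a transitive linear group

For a group `G` acting by automorphisms on a finite abelian group `V`, transitively on `V \ 0`, and
an abelian normal subgroup `A`:

* `isField_spanRing` : the subring of `End V` spanned by `A` is a field.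
* `index_dvd_of_ker_galois`, `commutator_le_of_ker_galois` : conjugation gives Galois automorphisms.
-/

set_option autoImplicit false
set_option linter.style.haveILetI false

namespace Cfsg.Agent.SolvableTransitive

universe u v

variable {G : Type u} [Group G] {V : Type v} [AddCommGroup V] [DistribMulAction G V]

/-- The endomorphism given by a group element. -/
def toEnd (V : Type v) [AddCommGroup V] [DistribMulAction G V] : G →* AddMonoid.End V :=
  DistribMulAction.toAddMonoidEnd G V

theorem toEnd_apply (g : G) (v : V) : toEnd V g v = g • v := rfl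

theorem toEnd_injective [FaithfulSMul G V] : Function.Injective (toEnd (G := G) V) := fun _ _ h =>
  eq_of_smul_eq_smul (fun v : V => congrArg (fun e : AddMonoid.End V => e v) h)

/-- The subring of `End V` generated by the elements of a subgroup. -/
def spanRing (V : Type v) [AddCommGroup V] [DistribMulAction G V] (A : Subgroup G) :
    Subring (AddMonoid.End V) :=
  Subring.closure (toEnd V '' (A : Set G))

theorem toEnd_mem_spanRing {A : Subgroup G} {a : G} (ha : a ∈ A) : toEnd V a ∈ spanRing V A :=
  Subring.subset_closure ⟨a, ha, rfl⟩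

theorem spanRing_commute {A : Subgroup G} {g : G} (hg : g ∈ Subgroup.centralizer (A : Set G))
    {x : AddMonoid.End V} (hx : x ∈ spanRing V A) : toEnd V g * x = x * toEnd V g := by
  have hle : spanRing V A ≤ Subring.centralizer {toEnd V g} := by
    refine Subring.closure_le.mpr ?_
    rintro _ ⟨a, ha, rfl⟩
    refine Subring.mem_centralizer_iff.mpr ?_
    rintro _ rfl
    rw [← map_mul, ← map_mul, hg a ha]
  exact Subring.mem_centralizer_iff.mp (hle hx) _ rfl

theorem spanRing_comm {A : Subgroup G} (hA : IsMulCommutative ↥A) {x y : AddMonoid.End V}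
    (hx : x ∈ spanRing V A) (hy : y ∈ spanRing V A) : x * y = y * x := by
  have hle : spanRing V A ≤ Subring.centralizer (spanRing V A : Set (AddMonoid.End V)) := by
    refine Subring.closure_le.mpr ?_
    rintro _ ⟨a, ha, rfl⟩
    refine Subring.mem_centralizer_iff.mpr fun w hw => (spanRing_commute (fun b hb => ?_) hw).symm
    exact congrArg Subtype.val (hA.is_comm.comm (⟨b, hb⟩ : ↥A) ⟨a, ha⟩)
  exact (Subring.mem_centralizer_iff.mp (hle hy) x hx)

theorem conj_mem_spanRing {A : Subgroup G} [hA : A.Normal] (g : G) {x : AddMonoid.End V}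
    (hx : x ∈ spanRing V A) : toEnd V g * x * toEnd V g⁻¹ ∈ spanRing V A := by
  induction hx using Subring.closure_induction with
  | mem x hx =>
    obtain ⟨a, ha, rfl⟩ := hx
    rw [← map_mul, ← map_mul]
    exact toEnd_mem_spanRing (hA.conj_mem a ha g)
  | zero => rw [mul_zero, zero_mul]; exact zero_mem _
  | one => rw [mul_one, ← map_mul, mul_inv_cancel, map_one]; exact one_mem _
  | add x y _ _ hx hy => rw [mul_add, add_mul]; exact add_mem hx hy
  | neg x _ hx => rw [mul_neg, neg_mul]; exact neg_mem hx
  | mul x y _ _ hx hy =>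
    have := mul_mem hx hy
    rwa [show toEnd V g * x * toEnd V g⁻¹ * (toEnd V g * y * toEnd V g⁻¹) =
        toEnd V g * (x * y) * toEnd V g⁻¹ by
      simp only [mul_assoc]
      rw [← mul_assoc (toEnd V g⁻¹) (toEnd V g), ← map_mul, inv_mul_cancel, map_one, one_mul]] at this

/-- The annihilator of a vector in the spanned ring. -/
def ann (A : Subgroup G) (v : V) : Set (AddMonoid.End V) := {r | r ∈ spanRing V A ∧ r v = 0}

theorem ncard_ann_smul [Finite V] {A : Subgroup G} [A.Normal] (g : G) (v : V) :
    (ann A v).ncard ≤ (ann A (g • v)).ncard := by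
  have : Finite (AddMonoid.End V) :=
    Finite.of_injective (fun f => (f : V → V)) DFunLike.coe_injective
  refine Set.ncard_le_ncard_of_injOn (fun r => toEnd V g * r * toEnd V g⁻¹) ?_ ?_ (Set.toFinite _)
  · rintro r ⟨hr, hrv⟩
    refine ⟨conj_mem_spanRing g hr, ?_⟩
    show g • r (g⁻¹ • g • v) = 0
    rw [inv_smul_smul, hrv, smul_zero]
  · intro r _ s _ h
    have h' := congrArg (fun e => toEnd V g⁻¹ * e * toEnd V g) h
    have hgg : toEnd V g⁻¹ * toEnd V g = 1 := by rw [← map_mul, inv_mul_cancel, map_one]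
    simp only [mul_assoc, hgg, mul_one] at h'
    rwa [← mul_assoc, hgg, one_mul, ← mul_assoc, hgg, one_mul] at h'

variable (htrans : ∀ a b : V, a ≠ 0 → b ≠ 0 → ∃ g : G, g • a = b)

include htrans

theorem ncard_ann_eq [Finite V] {A : Subgroup G} [A.Normal] {v w : V} (hv : v ≠ 0) (hw : w ≠ 0) :
    (ann A v).ncard = (ann A w).ncard := by
  obtain ⟨g, rfl⟩ := htrans v w hv hw
  refine le_antisymm (ncard_ann_smul g v) ?_
  have := ncard_ann_smul (A := A) g⁻¹ (g • v)
  rwa [inv_smul_smul] at this

/-- Nonzero elements of the spanned ring are injective. -/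
theorem eq_zero_of_apply_eq_zero [Finite V] {A : Subgroup G} [A.Normal] (hA : IsMulCommutative ↥A)
    {r : AddMonoid.End V} (hr : r ∈ spanRing V A) {v : V} (hv : v ≠ 0) (hrv : r v = 0) : r = 0 := by
  classical
  have : Finite (AddMonoid.End V) :=
    Finite.of_injective (fun f => (f : V → V)) DFunLike.coe_injective
  have hsub : ∀ {u : V} {x : AddMonoid.End V}, x ∈ spanRing V A → ann A u ⊆ ann A (x u) :=
    fun {u x} hx s hs => ⟨hs.1, by
      show (s * x) u = 0
      rw [spanRing_comm hA hs.1 hx]
      show x (s u) = 0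
      rw [hs.2, map_zero]⟩
  have heq : ∀ {u : V} {x : AddMonoid.End V}, x ∈ spanRing V A → x u ≠ 0 → ann A u = ann A (x u) :=
    fun {u x} hx hne => Set.eq_of_subset_of_ncard_le (hsub hx)
      (le_of_eq (ncard_ann_eq htrans hne (fun h => hne (by rw [h, map_zero])))) (Set.toFinite _)
  -- an idempotent power of `r`
  obtain ⟨a, b, hne, heqp⟩ := Finite.exists_ne_map_eq_of_infinite (fun k : ℕ => r ^ k)
  wlog hab : a < b generalizing a b
  · exact this b a hne.symm heqp.symm (lt_of_le_of_ne (not_lt.mp hab) hne.symm)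
  set t := b - a with ht
  have hper : ∀ k, a ≤ k → r ^ (k + t) = r ^ k := by
    intro k hk
    rw [show k + t = (k - a) + b by omega, pow_add, ← heqp, ← pow_add, Nat.sub_add_cancel hk]
  have hmul : ∀ s k, a ≤ k → r ^ (k + s * t) = r ^ k := by
    intro s
    induction s with
    | zero => intro k _; rw [zero_mul, add_zero]
    | succ s ih =>
      intro k hk
      rw [show k + (s + 1) * t = k + s * t + t by ring, hper _ (hk.trans (Nat.le_add_right _ _)), ih k hk]
  set e := r ^ ((a + 1) * t) with he
  have hat : a ≤ (a + 1) * t := le_trans (Nat.le_succ a) (Nat.le_mul_of_pos_right _ (by omega))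
  have hee : e * e = e := by rw [he, ← pow_add, hmul _ _ hat]
  have heR : e ∈ spanRing V A := pow_mem hr _
  have hev : e v = 0 := by
    obtain ⟨k, hk⟩ : ∃ k, (a + 1) * t = k + 1 :=
      ⟨(a + 1) * t - 1, by have : 0 < (a + 1) * t := Nat.mul_pos (by omega) (by omega); omega⟩
    rw [he, hk, pow_succ]
    show (r ^ k) (r v) = 0
    rw [hrv, map_zero]
  -- the idempotent is zero
  have he0 : e = 0 := by
    by_contra hne0
    obtain ⟨w, hw⟩ : ∃ w, e w ≠ 0 := by
      by_contra! hall
      exact hne0 (AddMonoidHom.ext hall)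
    set x := e w
    have hex : e x = x := congrArg (fun f : AddMonoid.End V => f w) hee
    have hsum : x + v ≠ 0 := fun h => hw (by
      have h1 := congrArg e h
      rw [map_add, map_zero, hex, hev, add_zero] at h1
      exact h1)
    have hlt : (ann A (x + v)).ncard < (ann A v).ncard := by
      refine Set.ncard_lt_ncard (Set.ssubset_iff_subset_ne.mpr ⟨fun s hs => ⟨hs.1, ?_⟩, fun h => ?_⟩)
        (Set.toFinite _)
      · have h1 : (e * s) (x + v) = 0 := by show e (s (x + v)) = 0; rw [hs.2, map_zero]
        rw [spanRing_comm hA heR hs.1] at h1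
        change s (e (x + v)) = 0 at h1
        rw [map_add e, hex, hev, add_zero] at h1
        have h2 := hs.2
        rw [map_add, h1, zero_add] at h2
        exact h2
      · have hmem : e ∈ ann A v := ⟨heR, hev⟩
        rw [← h] at hmem
        have h1 := hmem.2
        rw [map_add, hex, hev, add_zero] at h1
        exact hw h1
    exact hlt.ne (ncard_ann_eq htrans hsum hv)
  -- nilpotent elements vanish
  refine AddMonoidHom.ext fun u => ?_
  show r u = 0
  by_contra hru
  have hz : ∃ k, (r ^ k) u = 0 := ⟨(a + 1) * t, by rw [← he, he0]; rfl⟩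
  obtain ⟨k, hk, hkmin⟩ : ∃ k, (r ^ k) u = 0 ∧ ∀ l < k, (r ^ l) u ≠ 0 :=
    ⟨Nat.find hz, Nat.find_spec hz, fun l => Nat.find_min hz⟩
  rcases k with _ | k
  · refine hru ?_
    have hu0 : u = 0 := hk
    rw [hu0, map_zero]
  rw [pow_succ'] at hk
  have hmem : r ∈ ann A ((r ^ k) u) := ⟨hr, hk⟩
  rw [← heq (pow_mem hr k) (hkmin k (Nat.lt_succ_self k))] at hmem
  exact hru hmem.2

theorem isField_spanRing [Finite V] [Nontrivial V] {A : Subgroup G} [A.Normal]
    (hA : IsMulCommutative ↥A) : IsField ↥(spanRing V A) := by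
  classical
  have : Finite (AddMonoid.End V) :=
    Finite.of_injective (fun f => (f : V → V)) DFunLike.coe_injective
  letI : CommRing ↥(spanRing V A) :=
    { (inferInstance : Ring ↥(spanRing V A)) with
      mul_comm := fun x y => Subtype.ext (spanRing_comm hA x.2 y.2) }
  obtain ⟨v, hv⟩ := exists_ne (0 : V)
  haveI : Nontrivial ↥(spanRing V A) := ⟨⟨0, 1, fun h => hv (by
    have h1 := congrArg (fun x : ↥(spanRing V A) => (x : AddMonoid.End V) v) h
    exact h1.symm)⟩⟩
  haveI : NoZeroDivisors ↥(spanRing V A) := ⟨fun {x y} h => by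
    by_cases hy : (y : AddMonoid.End V) v = 0
    · exact Or.inr (Subtype.ext (eq_zero_of_apply_eq_zero htrans hA y.2 hv hy))
    · exact Or.inl (Subtype.ext (eq_zero_of_apply_eq_zero htrans hA x.2 hy
        (congrArg (fun z : ↥(spanRing V A) => (z : AddMonoid.End V) v) h)))⟩
  haveI : IsDomain ↥(spanRing V A) := NoZeroDivisors.to_isDomain _
  exact Finite.isField_of_domain ↥(spanRing V A)

omit htrans

/-- Conjugation by `g` as an automorphism of the spanned ring. -/
def galois (V : Type v) [AddCommGroup V] [DistribMulAction G V] (A : Subgroup G) [A.Normal] :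
    G →* (↥(spanRing V A) ≃+* ↥(spanRing V A)) where
  toFun g :=
    { toFun := fun x => ⟨toEnd V g * x * toEnd V g⁻¹, conj_mem_spanRing g x.2⟩
      invFun := fun x => ⟨toEnd V g⁻¹ * x * toEnd V g⁻¹⁻¹, conj_mem_spanRing g⁻¹ x.2⟩
      left_inv := fun x => Subtype.ext (AddMonoidHom.ext fun w => by
        show g⁻¹ • g • (x : AddMonoid.End V) (g⁻¹ • g⁻¹⁻¹ • w) = (x : AddMonoid.End V) w
        rw [inv_inv, inv_smul_smul, inv_smul_smul])
      right_inv := fun x => Subtype.ext (AddMonoidHom.ext fun w => by
        show g • g⁻¹ • (x : AddMonoid.End V) (g⁻¹⁻¹ • g⁻¹ • w) = (x : AddMonoid.End V) w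
        rw [inv_inv, smul_inv_smul, smul_inv_smul])
      map_mul' := fun x y => Subtype.ext (AddMonoidHom.ext fun w => by
        show g • (x : AddMonoid.End V) ((y : AddMonoid.End V) (g⁻¹ • w)) =
          g • (x : AddMonoid.End V) (g⁻¹ • g • (y : AddMonoid.End V) (g⁻¹ • w))
        rw [inv_smul_smul])
      map_add' := fun x y => Subtype.ext (AddMonoidHom.ext fun w => by
        show g • ((x : AddMonoid.End V) (g⁻¹ • w) + (y : AddMonoid.End V) (g⁻¹ • w)) =
          g • (x : AddMonoid.End V) (g⁻¹ • w) + g • (y : AddMonoid.End V) (g⁻¹ • w)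
        rw [smul_add]) }
  map_one' := RingEquiv.ext fun x => Subtype.ext (AddMonoidHom.ext fun w => by
    show (1 : G) • (x : AddMonoid.End V) ((1 : G)⁻¹ • w) = (x : AddMonoid.End V) w
    rw [one_smul, inv_one, one_smul])
  map_mul' g h := RingEquiv.ext fun x => Subtype.ext (AddMonoidHom.ext fun w => by
    show (g * h) • (x : AddMonoid.End V) ((g * h)⁻¹ • w) =
      g • h • (x : AddMonoid.End V) (h⁻¹ • g⁻¹ • w)
    rw [mul_inv_rev, mul_smul, mul_smul])

theorem smul_apply_eq_galois (A : Subgroup G) [A.Normal] (g : G) (x : ↥(spanRing V A)) (w : V) :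
    g • (x : AddMonoid.End V) w = ((galois V A g x : ↥(spanRing V A)) : AddMonoid.End V) (g • w) := by
  show _ = g • (x : AddMonoid.End V) (g⁻¹ • g • w)
  rw [inv_smul_smul]

theorem ker_galois [FaithfulSMul G V] (A : Subgroup G) [A.Normal] :
    (galois V A).ker = Subgroup.centralizer (A : Set G) := by
  ext g
  rw [MonoidHom.mem_ker]
  constructor
  · intro h a ha
    refine toEnd_injective (V := V) (AddMonoidHom.ext fun w => ?_)
    rw [map_mul, map_mul]
    show a • g • w = g • a • w
    have h1 := smul_apply_eq_galois A g ⟨toEnd V a, toEnd_mem_spanRing ha⟩ w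
    rw [h] at h1
    exact h1.symm
  · intro hg
    refine RingEquiv.ext fun x => Subtype.ext ?_
    show toEnd V g * (x : AddMonoid.End V) * toEnd V g⁻¹ = x
    rw [spanRing_commute hg x.2, mul_assoc, ← map_mul, mul_inv_cancel, map_one, mul_one]

section FiniteField

variable {R : Type*} [Field R] [Finite R] (q : ℕ) [Fact q.Prime] [CharP R q]

/-- A finite field of order `q^d` has a cyclic group of `d` automorphisms. -/
theorem ringAut_facts {d : ℕ} (hd : Nat.card R = q ^ d) :
    Nat.card (R ≃+* R) = d ∧ ∀ s t : R ≃+* R, s * t = t * s := by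
  letI := ZMod.algebra R q
  let e : (R ≃+* R) ≃* (R ≃ₐ[ZMod q] R) :=
    { toFun := fun s => AlgEquiv.ofRingEquiv (f := s) (fun c =>
        RingHom.congr_fun
          (Subsingleton.elim (s.toRingHom.comp (algebraMap (ZMod q) R)) (algebraMap (ZMod q) R)) c)
      invFun := fun s => s.toRingEquiv
      left_inv := fun s => RingEquiv.ext fun _ => rfl
      right_inv := fun s => AlgEquiv.ext fun _ => rfl
      map_mul' := fun s t => AlgEquiv.ext fun _ => rfl }
  refine ⟨?_, fun s t => e.injective ?_⟩
  · rw [Nat.card_congr e.toEquiv, IsGalois.card_aut_eq_finrank]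
    have h := Module.natCard_eq_pow_finrank (K := ZMod q) (V := R)
    rw [Nat.card_zmod, hd] at h
    exact (Nat.pow_right_injective (Fact.out (p := q.Prime)).two_le h).symm
  · rw [map_mul, map_mul]
    obtain ⟨c, hc⟩ := IsCyclic.exists_zpow_surjective (G := R ≃ₐ[ZMod q] R)
    obtain ⟨i, hi⟩ := hc (e s)
    obtain ⟨k, hk⟩ := hc (e t)
    simp only at hi hk
    rw [← hi, ← hk, ← zpow_add, ← zpow_add, add_comm]

/-- The automorphisms are powers of the Frobenius. -/
theorem ringAut_eq_pow {d : ℕ} (hd : Nat.card R = q ^ d) (s : R ≃+* R) :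
    ∃ k < d, ∀ x : R, s x = x ^ q ^ k := by
  letI := ZMod.algebra R q
  let t : R ≃ₐ[ZMod q] R := AlgEquiv.ofRingEquiv (f := s) (fun c =>
    RingHom.congr_fun
      (Subsingleton.elim (s.toRingHom.comp (algebraMap (ZMod q) R)) (algebraMap (ZMod q) R)) c)
  obtain ⟨k, hk⟩ := (FiniteField.bijective_frobeniusAlgEquivOfAlgebraic_pow (ZMod q) R).2 t
  have hfr : Module.finrank (ZMod q) R = d := by
    have h := Module.natCard_eq_pow_finrank (K := ZMod q) (V := R)
    rw [Nat.card_zmod, hd] at h
    exact (Nat.pow_right_injective (Fact.out (p := q.Prime)).two_le h).symm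
  refine ⟨k, hfr ▸ k.2, fun x => ?_⟩
  have h : t x = s x := rfl
  rw [← h, ← hk, AlgEquiv.coe_pow, FiniteField.coe_frobeniusAlgEquivOfAlgebraic_iterate, ZMod.card]

theorem index_dvd_of_ker {d : ℕ} (hd : Nat.card R = q ^ d) (φ : G →* (R ≃+* R)) :
    φ.ker.index ∣ d := by
  rw [Subgroup.index_ker, ← (ringAut_facts q hd).1]
  exact Subgroup.card_subgroup_dvd_card φ.range

include q in
theorem commutator_le_ker (φ : G →* (R ≃+* R)) : commutator G ≤ φ.ker := by
  obtain ⟨d, hd⟩ : ∃ d, Nat.card R = q ^ d := by
    letI := ZMod.algebra R q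
    exact ⟨_, by rw [Module.natCard_eq_pow_finrank (K := ZMod q) (V := R), Nat.card_zmod]⟩
  rw [commutator_def, Subgroup.commutator_le]
  intro x _ y _
  rw [MonoidHom.mem_ker, map_commutatorElement, commutatorElement_eq_one_iff_mul_comm]
  exact (ringAut_facts q hd).2 _ _

end FiniteField

end Cfsg.Agent.SolvableTransitive
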