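import Cfsg.Agent.Lib.PGroup.Basic
import Mathlib.RingTheory.IntegralDomain
import Mathlib.RingTheory.RootsOfUnity.PrimitiveRoots
import Mathlib.GroupTheory.Perm.Cycle.Type
import Mathlib.Algebra.BigOperators.Fin

/-!
# Isometries of prime order of a symplectic space over `F_p`

The space is an elementary abelian group `W` with an alternating pairing into the units of a field.

* `exists_card_eq_sq` : a nondegenerate space has order `p^(2i)`.
* `fixes_of_not_dvd` : an isometry of prime order `r` dividing no `p^(2i) - 1` with `p^(2i) ≤ |W|`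
  is trivial; `fixes_of_fixed` : it suffices that this holds for `p^(2i) < |W|` and that it fixes
  a nontrivial vector.
-/

set_option autoImplicit false
set_option linter.unusedSectionVars false

namespace Cfsg.Agent.SolvableTransitive

universe u v

variable {W : Type u} [CommGroup W] [Finite W] {K : Type v} [Field K] {p : ℕ} [Fact p.Prime]
  (f : W →* W →* Kˣ) (halt : ∀ x : W, f x x = 1) (hexp : ∀ x : W, x ^ p = 1)

/-- Nondegeneracy on a subgroup. -/
def Nondeg (S : Subgroup W) : Prop := ∀ x ∈ S, (∀ y ∈ S, f x y = 1) → x = 1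

section
include halt

theorem skew (x y : W) : f x y * f y x = 1 := by
  have h := halt (x * y)
  simp only [map_mul, MonoidHom.mul_apply] at h
  rw [halt x, halt y, one_mul, mul_one, mul_comm] at h
  exact h

include hexp

theorem pow_eq_one_apply (x y : W) : f x y ^ p = 1 := by
  rw [← map_pow, hexp, map_one]

theorem mem_zpowers_value {v u : W} (hvu : f v u ≠ 1) (x y : W) :
    f x y ∈ Subgroup.zpowers (f v u) := by
  have hp := (Fact.out (p := p.Prime))
  have hζ : orderOf (f v u) = p := orderOf_eq_prime (pow_eq_one_apply f halt hexp v u) hvu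
  have : NeZero p := ⟨hp.ne_zero⟩
  have h1 : Subgroup.zpowers (f v u) = rootsOfUnity p K := by
    refine Subgroup.eq_of_le_of_card_ge (Subgroup.zpowers_le.mpr
      ((mem_rootsOfUnity p _).mpr (pow_eq_one_apply f halt hexp v u))) ?_
    rw [Nat.card_zpowers, hζ]
    exact card_rootsOfUnity K p
  rw [h1]
  exact (mem_rootsOfUnity p _).mpr (pow_eq_one_apply f halt hexp x y)

/-- Splitting off a hyperbolic pair. -/
theorem split {S : Subgroup W} (hS : Nondeg f S) {v u : W} (hv : v ∈ S) (hu : u ∈ S)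
    (hvu : f v u ≠ 1) :
    Nondeg f (S ⊓ (f v).ker ⊓ (f u).ker) ∧
      Nat.card ↥S = Nat.card ↥(S ⊓ (f v).ker ⊓ (f u).ker) * p ^ 2 ∧
      ∀ s ∈ S, ∃ s' ∈ S ⊓ (f v).ker ⊓ (f u).ker, ∃ i j : ℤ, s = s' * v ^ i * u ^ j := by
  set T := S ⊓ (f v).ker ⊓ (f u).ker with hT
  have huv : f u v = (f v u)⁻¹ := eq_inv_of_mul_eq_one_left (skew f halt u v)
  have hdec : ∀ s ∈ S, ∃ s' ∈ T, ∃ i j : ℤ, s = s' * v ^ i * u ^ j := by
    intro s hs
    obtain ⟨j, hj⟩ := mem_zpowers_value f halt hexp hvu v s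
    obtain ⟨i, hi⟩ := mem_zpowers_value f halt hexp hvu u s
    simp only at hi hj
    refine ⟨s * v ^ i * u ^ (-j), ⟨⟨?_, ?_⟩, ?_⟩, -i, j, ?_⟩
    · exact S.mul_mem (S.mul_mem hs (S.zpow_mem hv _)) (S.zpow_mem hu _)
    · show f v _ = 1
      rw [map_mul, map_mul, map_zpow, map_zpow, halt, one_zpow, mul_one, ← hj,
        ← zpow_add, add_neg_cancel, zpow_zero]
    · show f u _ = 1
      rw [map_mul, map_mul, map_zpow, map_zpow, halt, zpow_neg, one_zpow, inv_one, mul_one, ← hi,
        huv, inv_zpow, mul_inv_cancel]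
    · simp [mul_assoc, mul_comm, mul_left_comm, zpow_neg]
  refine ⟨?_, ?_, hdec⟩
  · intro x hx hall
    refine hS x hx.1.1 fun y hy => ?_
    obtain ⟨y', hy', i, j, rfl⟩ := hdec y hy
    have h1 : f x v = 1 := by
      have h := skew f halt v x
      rwa [MonoidHom.mem_ker.mp hx.1.2, one_mul] at h
    have h2 : f x u = 1 := by
      have h := skew f halt u x
      rwa [MonoidHom.mem_ker.mp hx.2, one_mul] at h
    rw [map_mul, map_mul, map_zpow, map_zpow, h1, h2, one_zpow, one_zpow, mul_one, mul_one]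
    exact hall y' hy'
  · have hvT : v ∉ T := fun h => hvu (by
      have h1 : f u v = 1 := MonoidHom.mem_ker.mp h.2
      have h2 := skew f halt v u
      rwa [h1, mul_one] at h2)
    have huT : u ∉ T ⊔ Subgroup.zpowers v := fun h => hvu (by
      have hle : T ⊔ Subgroup.zpowers v ≤ (f v).ker :=
        sup_le (fun x hx => hx.1.2) (Subgroup.zpowers_le.mpr (halt v))
      exact hle h)
    have hsup : T ⊔ Subgroup.zpowers v ⊔ Subgroup.zpowers u = S := by
      refine le_antisymm (sup_le (sup_le (fun x hx => hx.1.1) (Subgroup.zpowers_le.mpr hv))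
        (Subgroup.zpowers_le.mpr hu)) fun s hs => ?_
      obtain ⟨s', hs', i, j, rfl⟩ := hdec s hs
      exact Subgroup.mul_mem _ (Subgroup.mul_mem _ (Subgroup.mem_sup_left (Subgroup.mem_sup_left hs'))
        (Subgroup.mem_sup_left (Subgroup.mem_sup_right (Subgroup.zpow_mem _ (Subgroup.mem_zpowers v) i))))
        (Subgroup.mem_sup_right (Subgroup.zpow_mem _ (Subgroup.mem_zpowers u) j))
    rw [← hsup, PGroup.card_sup_zpowers (p := p) (T ⊔ Subgroup.zpowers v) huT (by rw [hexp]; exact one_mem _),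
      PGroup.card_sup_zpowers (p := p) T hvT (by rw [hexp]; exact one_mem _)]
    ring

omit [Finite W] in
theorem exists_pair {S : Subgroup W} (hS : Nondeg f S) {v : W} (hv : v ∈ S) (hv1 : v ≠ 1) :
    ∃ u ∈ S, f v u ≠ 1 := by
  by_contra! hall
  exact hv1 (hS v hv hall)

theorem exists_card_eq_sq : ∀ S : Subgroup W, Nondeg f S → ∃ i, Nat.card ↥S = p ^ (2 * i) := by
  intro S
  induction S using WellFoundedLT.induction with
  | ind S ih =>
    intro hS
    by_cases hbot : S = ⊥
    · exact ⟨0, by rw [hbot, Subgroup.card_bot, mul_zero, pow_zero]⟩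
    obtain ⟨⟨v, hv⟩, hv1⟩ := Subgroup.ne_bot_iff_exists_ne_one.mp hbot
    have hv' : v ≠ 1 := fun h => hv1 (Subtype.ext h)
    obtain ⟨u, hu, hvu⟩ := exists_pair f halt hexp hS hv hv'
    obtain ⟨hT, hcard, -⟩ := split f halt hexp hS hv hu hvu
    obtain ⟨i, hi⟩ := ih _ (lt_of_le_of_ne (inf_le_left.trans inf_le_left) fun h => by
      have : u ∈ S ⊓ (f v).ker ⊓ (f u).ker := h.symm ▸ hu
      exact hvu this.1.2) hT
    exact ⟨i + 1, by rw [hcard, hi]; ring⟩

variable {r : ℕ} [Fact r.Prime] (hrp : r ≠ p) (σ : W ≃* W)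
  (hσr : σ.toEquiv ^ r = 1) (hσf : ∀ x y, f (σ x) (σ y) = f x y)

omit [Finite W] halt hexp [Fact p.Prime] in
include hσr hrp in
theorem exists_fixed_of_prime [Finite W] (P : W → Prop) (hP : ∀ x, P (σ x) ↔ P x)
    (hcard : ¬ r ∣ Nat.card {x : W // P x}) : ∃ x, P x ∧ σ x = x := by
  classical
  have := Fintype.ofFinite {x : W // P x}
  set τ : Equiv.Perm {x : W // P x} := σ.toEquiv.subtypeEquiv (fun x => (hP x).symm) with hτ
  have hτk : ∀ (k : ℕ) (a : {x : W // P x}), ((τ ^ k) a : W) = (σ.toEquiv ^ k) (a : W) := by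
    intro k
    induction k with
    | zero => intro a; rfl
    | succ k ih =>
      intro a
      rw [pow_succ', pow_succ', Equiv.Perm.mul_apply, Equiv.Perm.mul_apply]
      exact congrArg σ.toEquiv (ih a)
  have hτr : τ ^ r ^ 1 = 1 := by
    refine Equiv.ext fun a => Subtype.ext ?_
    rw [pow_one, hτk, hσr]
    rfl
  rw [Nat.card_eq_fintype_card] at hcard
  obtain ⟨a, ha⟩ := Equiv.Perm.exists_fixed_point_of_prime hcard hτr
  exact ⟨a, a.2, congrArg Subtype.val ha⟩

include hrp hσr hσf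

/-- The step: a fixed nontrivial vector reduces the question to its hyperbolic complement. -/
theorem fixes_step {S : Subgroup W} (hS : Nondeg f S) (hSσ : ∀ x, σ x ∈ S ↔ x ∈ S) {v : W}
    (hv : v ∈ S) (hv1 : v ≠ 1) (hσv : σ v = v)
    (ih : ∀ T : Subgroup W, T < S → Nondeg f T → (∀ x, σ x ∈ T ↔ x ∈ T) →
      Nat.card ↥T * p ^ 2 = Nat.card ↥S → ∀ x ∈ T, σ x = x) :
    ∀ x ∈ S, σ x = x := by
  classical
  have hp := (Fact.out (p := p.Prime))
  have hfix : ∀ y, f v (σ y) = f v y := fun y => by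
    conv_lhs => rw [← hσv]
    exact hσf v y
  obtain ⟨u₀, hu₀, hvu₀⟩ := exists_pair f halt hexp hS hv hv1
  obtain ⟨u, ⟨hu, hvu⟩, hσu⟩ := exists_fixed_of_prime hrp σ hσr (fun x => x ∈ S ∧ f v x = f v u₀)
    (fun x => by rw [hSσ, hfix]) (by
    obtain ⟨i, hi⟩ := exists_card_eq_sq f halt hexp S hS
    have he : Nat.card {x : W // x ∈ S ∧ f v x = f v u₀} = Nat.card ↥(S ⊓ (f v).ker) :=
      Nat.card_congr
        { toFun := fun x => ⟨x.1 * u₀⁻¹, S.mul_mem x.2.1 (S.inv_mem hu₀), by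
            show f v _ = 1
            rw [map_mul, map_inv, x.2.2, mul_inv_cancel]⟩
          invFun := fun y => ⟨y.1 * u₀, S.mul_mem y.2.1 hu₀, by
            rw [map_mul, MonoidHom.mem_ker.mp y.2.2, one_mul]⟩
          left_inv := fun x => Subtype.ext (by simp)
          right_inv := fun y => Subtype.ext (by simp) }
    rw [he]
    intro hd
    have h1 : Nat.card ↥(S ⊓ (f v).ker) ∣ p ^ (2 * i) := hi ▸ Subgroup.card_dvd_of_le inf_le_left
    obtain ⟨k, -, hk⟩ := (Nat.dvd_prime_pow hp).mp h1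
    rw [hk] at hd
    exact hrp ((Nat.prime_dvd_prime_iff_eq Fact.out hp).mp ((Fact.out : r.Prime).dvd_of_dvd_pow hd)))
  have hvu' : f v u ≠ 1 := hvu.symm ▸ hvu₀
  obtain ⟨hT, hcard, hdec⟩ := split f halt hexp hS hv hu hvu'
  have hfixu : ∀ y, f u (σ y) = f u y := fun y => by
    conv_lhs => rw [← hσu]
    exact hσf u y
  have hTσ : ∀ x, σ x ∈ S ⊓ (f v).ker ⊓ (f u).ker ↔ x ∈ S ⊓ (f v).ker ⊓ (f u).ker := fun x => by
    simp only [Subgroup.mem_inf, MonoidHom.mem_ker, hfix, hfixu, hSσ]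
  have htriv := ih _ (lt_of_le_of_ne (inf_le_left.trans inf_le_left) fun h => by
    have : u ∈ S ⊓ (f v).ker ⊓ (f u).ker := h.symm ▸ hu
    exact hvu' this.1.2) hT hTσ hcard.symm
  intro x hx
  obtain ⟨s', hs', i, j, rfl⟩ := hdec x hx
  rw [map_mul, map_mul, map_zpow, map_zpow, htriv s' hs', hσv, hσu]

theorem fixes_of_not_dvd : ∀ S : Subgroup W, Nondeg f S → (∀ x, σ x ∈ S ↔ x ∈ S) →
    (∀ i, 1 ≤ i → p ^ (2 * i) ≤ Nat.card ↥S → ¬ r ∣ p ^ (2 * i) - 1) → ∀ x ∈ S, σ x = x := by
  intro S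
  induction S using WellFoundedLT.induction with
  | ind S ih =>
    intro hS hSσ hr
    by_cases hbot : S = ⊥
    · intro x hx
      rw [hbot, Subgroup.mem_bot] at hx
      rw [hx, map_one]
    classical
    obtain ⟨i, hi⟩ := exists_card_eq_sq f halt hexp S hS
    have hi0 : 1 ≤ i := by
      by_contra h
      exact hbot (Subgroup.card_eq_one.mp (by rw [hi, show i = 0 by omega, mul_zero, pow_zero]))
    obtain ⟨v, ⟨hv, hv1⟩, hσv⟩ := exists_fixed_of_prime hrp σ hσr (fun x => x ∈ S ∧ x ≠ 1)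
      (fun x => by rw [hSσ, ne_eq, MulEquiv.map_eq_one_iff]) (by
      have := Fintype.ofFinite W
      have : Nat.card {x : W // x ∈ S ∧ x ≠ 1} = Nat.card ↥S - 1 := by
        rw [Nat.card_eq_fintype_card, Fintype.card_subtype, Nat.card_eq_fintype_card,
          Fintype.card_subtype]
        rw [show (Finset.univ.filter fun x : W => x ∈ S ∧ x ≠ 1) =
          (Finset.univ.filter fun x : W => x ∈ S).erase 1 by ext; simp [and_comm]]
        rw [Finset.card_erase_of_mem (by simp)]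
      rw [this, hi]
      exact hr i hi0 hi.ge)
    exact fixes_step f halt hexp hrp σ hσr hσf hS hSσ hv hv1 hσv
      fun T hT hTn hTσ hTc => ih T hT hTn hTσ fun k hk hle => hr k hk
        (hle.trans (hTc ▸ Nat.le_mul_of_pos_right _ (pow_pos (Fact.out (p := p.Prime)).pos 2)))

theorem fixes_of_fixed (hnd : Nondeg f (⊤ : Subgroup W)) {v : W} (hv1 : v ≠ 1) (hσv : σ v = v)
    (hr : ∀ i, 1 ≤ i → p ^ (2 * i) < Nat.card W → ¬ r ∣ p ^ (2 * i) - 1) :
    ∀ x : W, σ x = x := fun x =>
  fixes_step f halt hexp hrp σ hσr hσf hnd (fun y => by simp) (Subgroup.mem_top v) hv1 hσv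
    (fun T _ hTn hTσ hTc => fixes_of_not_dvd f halt hexp hrp σ hσr hσf T hTn hTσ fun i hi hle =>
      hr i hi (by
        rw [Subgroup.card_top] at hTc
        have h2 : 1 < p ^ 2 := Nat.one_lt_pow two_ne_zero (Fact.out (p := p.Prime)).one_lt
        have : Nat.card ↥T < Nat.card W := hTc ▸ lt_mul_of_one_lt_right Nat.card_pos h2
        omega))
    x (Subgroup.mem_top x)

end

end Cfsg.Agent.SolvableTransitive
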