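import Cfsg.Agent.Lib.Zsigmondy.Basic

/-!
# Arithmetic for solvable transitive linear groups

* `exists_good_prime` : a large prime divisor of `q^n - 1`.
* `eq_three_four` : if `n = 2^i ≥ 4` and `n + 1` is the only odd prime divisor of `q^(n/2) + 1`, to
  the first power, then `(q, n) = (3, 4)`.
* `two_five_seven` : `q + 1 ∣ 24`.
-/

set_option autoImplicit false

namespace Cfsg.Agent.SolvableTransitive

theorem gt_of_primitive {q n r : ℕ} (hn : 0 < n) (hq : 1 < q) (hr : r.Prime) (hdvd : r ∣ q ^ n - 1)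
    (hprim : ∀ k, 0 < k → k < n → ¬ r ∣ q ^ k - 1) : n < r := by
  have := Fact.mk hr
  have hiff : ∀ k, r ∣ q ^ k - 1 ↔ (q : ZMod r) ^ k = 1 := fun k => by
    rw [← CharP.cast_eq_zero_iff (ZMod r) r, Nat.cast_sub (Nat.one_le_pow _ _ (by omega)), Nat.cast_pow,
      Nat.cast_one, sub_eq_zero]
  have hqn := (hiff n).mp hdvd
  have ho : orderOf (q : ZMod r) = n := orderOf_eq_iff hn |>.mpr
    ⟨hqn, fun m hm hm0 h => hprim m hm0 hm ((hiff m).mpr h)⟩
  have h0 : (q : ZMod r) ≠ 0 := fun h => by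
    rw [h, zero_pow hn.ne'] at hqn
    exact zero_ne_one hqn
  have := Nat.le_of_dvd (Nat.sub_pos_of_lt hr.one_lt) (ho ▸ ZMod.orderOf_dvd_card_sub_one h0)
  omega

theorem exists_good_prime {q d j p : ℕ} (hq : q.Prime) (hp : p.Prime) (hn : 3 ≤ d * j)
    (hpd : p ∣ q ^ d - 1) (hpj : p ≤ j) :
    ∃ r : ℕ, r.Prime ∧ d * j < r ∧ r ∣ q ^ (d * j) - 1 ∧
      ∀ k, 0 < k → k < j → ¬ r ∣ (q ^ d) ^ k - 1 := by
  have hd : 0 < d := Nat.pos_of_ne_zero fun h => by rw [h, zero_mul] at hn; omega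
  by_cases h26 : q = 2 ∧ d * j = 6
  · obtain ⟨rfl, h6⟩ := h26
    have h2 : d = 2 ∧ j = 3 := by
      have hj2 := hp.two_le.trans hpj
      have hd3 : d ≤ 3 := by
        have := Nat.mul_le_mul_left d hj2
        omega
      interval_cases d
      · norm_num at hpd
        exact absurd hpd hp.ne_one
      · omega
      · obtain rfl : j = 2 := by omega
        obtain rfl : p = 2 := le_antisymm hpj hp.two_le
        norm_num at hpd
    obtain ⟨rfl, rfl⟩ := h2
    refine ⟨7, by norm_num, by norm_num, by norm_num, fun k hk1 hk2 => ?_⟩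
    interval_cases k <;> norm_num
  · obtain ⟨r, hr, hdvd, hprim⟩ := Zsigmondy.exists_primitive_prime_divisor q (d * j) hq.one_lt
      (by omega) h26 (fun h => by omega)
    refine ⟨r, hr, gt_of_primitive (by omega) hq.one_lt hr hdvd hprim, hdvd, fun k hk1 hk2 => ?_⟩
    rw [← pow_mul]
    exact hprim (d * k) (Nat.mul_pos hd hk1) (Nat.mul_lt_mul_of_pos_left hk2 hd)

theorem eq_three_four {q i : ℕ} (hq : q.Prime) (hq2 : q ≠ 2) (hi : 2 ≤ i)
    (h : ∀ s : ℕ, s.Prime → s ≠ 2 → s ∣ q ^ (2 ^ (i - 1)) + 1 →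
      s = 2 ^ i + 1 ∧ ¬ s ^ 2 ∣ q ^ (2 ^ (i - 1)) + 1) :
    q = 3 ∧ i = 2 := by
  set N := q ^ (2 ^ (i - 1)) + 1 with hN
  have hodd : Odd q := hq.odd_of_ne_two hq2
  obtain ⟨y, hy⟩ : ∃ y, q ^ (2 ^ (i - 1)) = y * y := by
    refine ⟨q ^ (2 ^ (i - 2)), ?_⟩
    rw [← pow_add, ← two_mul, ← pow_succ', show i - 2 + 1 = i - 1 by omega]
  have hyodd : Odd y := (Nat.odd_mul.mp (hy ▸ hodd.pow)).1
  obtain ⟨z, hz⟩ := hyodd
  set N' := 2 * z * z + 2 * z + 1 with hN'
  have hNN : N = 2 * N' := by rw [hN, hy, hz, hN']; ring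
  have hN'odd : Odd N' := ⟨z * z + z, by rw [hN']; ring⟩
  have huniq : ∀ {s : ℕ}, s.Prime → s ∣ N' → s = 2 ^ i + 1 := fun {s} hs hsN => by
    refine (h s hs (fun h2 => ?_) (hsN.trans ⟨2, by rw [hNN, mul_comm]⟩)).1
    subst h2
    exact Nat.not_even_iff_odd.mpr hN'odd (even_iff_two_dvd.mpr hsN)
  have hpow := Nat.eq_prime_pow_of_unique_prime_dvd (n := N') (by omega) huniq
  have hlen : N'.primeFactorsList.length ≤ 1 := by
    by_contra! hlen
    obtain ⟨s, hs, hsN⟩ := Nat.exists_prime_and_dvd (n := N') (by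
      intro h1
      rw [h1, Nat.primeFactorsList_one] at hlen
      simp at hlen)
    have hs' := huniq hs hsN
    refine (h s hs (fun h2 => ?_) (hsN.trans ⟨2, by rw [hNN, mul_comm]⟩)).2 ?_
    · rw [hs'] at h2
      have : 4 ≤ 2 ^ i := le_trans (by norm_num) (Nat.pow_le_pow_right two_pos hi)
      omega
    · refine dvd_trans ?_ (show N' ∣ N from ⟨2, by rw [hNN, mul_comm]⟩)
      conv_rhs => rw [hpow]
      rw [hs']
      exact pow_dvd_pow _ hlen
  have hN'le : N' ≤ 2 ^ i + 1 := by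
    rw [hpow]
    calc (2 ^ i + 1) ^ N'.primeFactorsList.length ≤ (2 ^ i + 1) ^ 1 :=
          Nat.pow_le_pow_right (Nat.succ_pos _) hlen
      _ = _ := pow_one _
  have hq3 : 3 ≤ q := by have := hq.two_le; omega
  have hle : q ^ (2 ^ (i - 1)) ≤ 2 ^ (i + 1) + 1 := by
    rw [pow_succ']
    omega
  by_cases hi2 : i = 2
  · subst hi2
    norm_num at hle
    refine ⟨le_antisymm ?_ hq3, rfl⟩
    by_contra! hlt
    nlinarith
  · exfalso
    obtain ⟨k, rfl⟩ : ∃ k, i = k + 3 := ⟨i - 3, by omega⟩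
    have h3 : 3 ^ (2 ^ (k + 2)) ≤ q ^ (2 ^ (k + 2)) := Nat.pow_le_pow_left hq3 _
    rw [show k + 3 - 1 = k + 2 by omega, show k + 3 + 1 = k + 4 by omega] at hle
    have hexp : k + 4 ≤ 2 ^ (k + 2) := by
      have := Nat.lt_two_pow_self (n := k)
      rw [pow_add]
      omega
    have h4 : 3 ^ (k + 4) ≤ 3 ^ (2 ^ (k + 2)) := Nat.pow_le_pow_right (by norm_num) hexp
    have h5 : 2 ^ (k + 4) + 1 < 3 ^ (k + 4) := by
      induction k with
      | zero => norm_num
      | succ k _ =>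
        have : 2 ^ (k + 4) ≤ 3 ^ (k + 4) := Nat.pow_le_pow_left (by norm_num) _
        have h1 : 1 < 3 ^ (k + 4) := Nat.one_lt_pow (by omega) (by norm_num)
        rw [show k + 1 + 4 = (k + 4) + 1 by ring, pow_succ 2 (k + 4), pow_succ 3 (k + 4)]
        omega
    omega

theorem mem_of_succ_dvd {q : ℕ} (hq : q.Prime) (hq2 : q ≠ 2) (h : q + 1 ∣ 24) :
    q ∈ ({3, 5, 7, 11, 23} : Set ℕ) := by
  have hle := Nat.le_of_dvd (by norm_num) h
  have hle' : q ≤ 23 := by omega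
  have := hq.two_le
  interval_cases q <;> simp_all (config := { decide := true })

end Cfsg.Agent.SolvableTransitive
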