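import Cfsg.Agent.Lib.SolvableTransitive.Section
import Mathlib.GroupTheory.GroupAction.Quotient
import Mathlib.GroupTheory.Perm.Basic
import Mathlib.LinearAlgebra.Dual.Lemmas

/-!
# A group with a scalar section in dimension 2, and semiregular subgroups on a section

* `card_dvd_of_two` : in dimension 2 with `|M/A| = 4`, `|G|` divides `24 (|K| - 1)`.
* `card_dvd_pred_of_semiregular` : a semiregular subgroup divides `|W| - 1`.
-/

set_option autoImplicit false
set_option linter.unusedSectionVars false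

namespace Cfsg.Agent.SolvableTransitive

open scoped commutatorElement

universe u v w

/-- A group of automorphisms fixing only `1` on `W` has order dividing `|W| - 1`. -/
theorem card_dvd_pred_of_semiregular {W : Type*} [Group W] [Finite W] {H : Type*} [Group H] [Finite H]
    (θ : H →* MulAut W) (hfree : ∀ h : H, ∀ x : W, x ≠ 1 → θ h x = x → h = 1) :
    Nat.card H ∣ Nat.card W - 1 := by
  classical
  letI : MulAction H {x : W // x ≠ 1} :=
    { smul := fun h x => ⟨θ h x.1, fun hh => x.2 (by simpa using hh)⟩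
      one_smul := fun x => Subtype.ext (show θ 1 x.1 = x.1 by rw [map_one]; rfl)
      mul_smul := fun g h x => Subtype.ext (show θ (g * h) x.1 = θ g (θ h x.1) by rw [map_mul]; rfl) }
  have hstab : ∀ x : {x : W // x ≠ 1}, MulAction.stabilizer H x = ⊥ := fun x => by
    refine (Subgroup.eq_bot_iff_forall _).mpr fun h hh => ?_
    exact hfree h x.1 x.2 (congrArg Subtype.val hh)
  have h1 : Nat.card {x : W // x ≠ 1} = Nat.card W - 1 := by
    have := Fintype.ofFinite W
    rw [Nat.card_eq_fintype_card, Nat.card_eq_fintype_card, Fintype.card_subtype_compl,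
      Fintype.card_subtype_eq]
  rw [← h1, Nat.card_congr (MulAction.selfEquivOrbitsQuotientProd hstab), Nat.card_prod]
  exact dvd_mul_left _ _

variable {G : Type u} [Group G] [Finite G] {K : Type w} [Field K] [Finite K] {V : Type v}
  [AddCommGroup V] [Module K V] [Finite V] [Nontrivial V] [DistribMulAction G V] [FaithfulSMul G V]
  (S : ScalarSection G K V 2)

theorem card_ker_dvd (hC : Subgroup.centralizer (S.A : Set G) = ⊤)
    (h2 : Module.finrank K V = 2) (h4 : Nat.card S.W = 4) {H : Subgroup G}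
    (hH : ∀ h ∈ H, ∀ m ∈ S.M, h * m = m * h) : Nat.card ↥H ∣ Nat.card Kˣ := by
  have : Fact (Nat.Prime 2) := ⟨Nat.prime_two⟩
  have := Fintype.ofFinite S.W
  have hfr : Module.finrank K (Module.End K V) = 4 := by rw [Module.finrank_linearMap, h2]
  have hspan : Submodule.span K (Set.range S.repOp) = ⊤ :=
    S.linearIndependent_repOp.span_eq_top_of_card_eq_finrank
      (by rw [← Nat.card_eq_fintype_card, h4, hfr])
  obtain ⟨v₀, hv₀⟩ := exists_ne (0 : V)
  obtain ⟨φ₀, hφ₀⟩ : ∃ φ : V →ₗ[K] K, φ v₀ ≠ 0 := by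
    by_contra! hall
    exact hv₀ ((Module.forall_dual_apply_eq_zero_iff K v₀).mp hall)
  set φ := (φ₀ v₀)⁻¹ • φ₀ with hφdef
  have hφ : φ v₀ = 1 := inv_mul_cancel₀ hφ₀
  have hlin : ∀ (g : G) (c : K) (x : V), g • c • x = c • g • x :=
    fun g c x => S.linear g (hC.symm ▸ Subgroup.mem_top g) c x
  have hall : ∀ h ∈ H, ∀ (T : Module.End K V) (x : V), h • T x = T (h • x) := by
    intro h hh T
    have hT : T ∈ Submodule.span K (Set.range S.repOp) := hspan.symm ▸ Submodule.mem_top
    induction hT using Submodule.span_induction with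
    | mem T hT =>
      obtain ⟨w, rfl⟩ := hT
      intro x
      show h • ((QuotientGroup.mk_surjective w).choose : G) • x =
        ((QuotientGroup.mk_surjective w).choose : G) • h • x
      rw [← mul_smul, hH h hh _ (QuotientGroup.mk_surjective w).choose.2, mul_smul]
    | zero => intro x; rw [LinearMap.zero_apply, smul_zero, LinearMap.zero_apply]
    | add T T' _ _ hT hT' => intro x; rw [LinearMap.add_apply, smul_add, hT, hT', LinearMap.add_apply]
    | smul c T _ hT => intro x; rw [LinearMap.smul_apply, hlin, hT, LinearMap.smul_apply]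
  have hscal : ∀ h ∈ H, ∀ x : V, h • x = φ (h • v₀) • x := by
    intro h hh x
    have h1 := hall h hh (LinearMap.smulRight φ x) v₀
    simp only [LinearMap.smulRight_apply, hφ, one_smul] at h1
    exact h1
  let ψ : ↥H →* K :=
    { toFun := fun h => φ ((h : G) • v₀)
      map_one' := by rw [Subgroup.coe_one, one_smul, hφ]
      map_mul' := fun h h' => by
        rw [Subgroup.coe_mul, mul_smul, hscal h h.2 ((h' : G) • v₀), map_smul, smul_eq_mul] }
  refine Subgroup.card_dvd_of_injective ψ.toHomUnits fun h h' he => Subtype.ext ?_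
  refine eq_of_smul_eq_smul fun x : V => ?_
  have he' : φ ((h : G) • v₀) = φ ((h' : G) • v₀) := congrArg Units.val he
  rw [hscal h h.2, hscal h' h'.2, he']

theorem card_dvd_of_two (hC : Subgroup.centralizer (S.A : Set G) = ⊤)
    (h2 : Module.finrank K V = 2) (h4 : Nat.card S.W = 4) :
    Nat.card G ∣ 24 * Nat.card Kˣ := by
  classical
  have : Fact (Nat.Prime 2) := ⟨Nat.prime_two⟩
  have := Fintype.ofFinite S.W
  -- the action on the three nontrivial elements of the section
  let P : MulAut S.W →* Equiv.Perm {x : S.W // x ≠ 1} :=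
    { toFun := fun σ => σ.toEquiv.subtypeEquiv fun x => by simp
      map_one' := Equiv.ext fun _ => rfl
      map_mul' := fun _ _ => Equiv.ext fun _ => rfl }
  have hP : Function.Injective P := by
    refine (injective_iff_map_eq_one P).mpr fun σ hσ => MulEquiv.ext fun x => ?_
    by_cases hx : x = 1
    · rw [hx, map_one, map_one]
    · exact congrArg Subtype.val (DFunLike.congr_fun hσ ⟨x, hx⟩)
  have h6 : S.conj.ker.index ∣ 6 := by
    rw [Subgroup.index_ker]
    refine (Subgroup.card_subgroup_dvd_card _).trans ((Subgroup.card_dvd_of_injective P hP).trans ?_)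
    have hc : Fintype.card {x : S.W // x ≠ 1} = 3 := by
      rw [Fintype.card_subtype_compl, Fintype.card_subtype_eq, ← Nat.card_eq_fintype_card, h4]
    rw [Nat.card_eq_fintype_card, Fintype.card_perm, hc]
    rfl
  -- generators of `M` modulo `A`
  obtain ⟨w, hw⟩ : ∃ w : S.W, w ≠ 1 := by
    have : Nontrivial S.W := Finite.one_lt_card_iff_nontrivial.mp (by omega)
    exact exists_ne 1
  obtain ⟨u, -, hwu⟩ := exists_pair S.form S.halt S.hexp S.hnd (Subgroup.mem_top w) hw
  obtain ⟨-, hcard, hdec⟩ := split S.form S.halt S.hexp S.hnd (Subgroup.mem_top w) (Subgroup.mem_top u) hwu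
  rw [Subgroup.card_top, h4] at hcard
  have hT : ((⊤ : Subgroup S.W) ⊓ (S.form w).ker ⊓ (S.form u).ker) = ⊥ :=
    Subgroup.card_eq_one.mp (by omega)
  obtain ⟨a, rfl⟩ := QuotientGroup.mk_surjective w
  obtain ⟨b, rfl⟩ := QuotientGroup.mk_surjective u
  have hgen : ∀ h : G, h * (a : G) = a * h → h * (b : G) = b * h → ∀ m ∈ S.M, h * m = m * h := by
    intro h ha hb m hm
    obtain ⟨s', hs', i, j, he⟩ := hdec (QuotientGroup.mk ⟨m, hm⟩) (Subgroup.mem_top _)
    rw [hT, Subgroup.mem_bot] at hs'
    rw [hs', one_mul, ← QuotientGroup.mk_zpow, ← QuotientGroup.mk_zpow, ← QuotientGroup.mk_mul, eq_comm,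
      QuotientGroup.eq, Subgroup.mem_subgroupOf] at he
    simp only [Subgroup.coe_mul, Subgroup.coe_inv, Subgroup.coe_zpow] at he
    have hZ : ∀ x ∈ S.A, x ∈ Subgroup.centralizer {h} := fun x hx =>
      Subgroup.mem_centralizer_singleton_iff.mpr (S.commute_of_mem hx (hC.symm ▸ Subgroup.mem_top h)).symm
    have ha' : (a : G) ∈ Subgroup.centralizer {h} := Subgroup.mem_centralizer_singleton_iff.mpr ha.symm
    have hb' : (b : G) ∈ Subgroup.centralizer {h} := Subgroup.mem_centralizer_singleton_iff.mpr hb.symm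
    have h3 := mul_mem (mul_mem (zpow_mem ha' i) (zpow_mem hb' j)) (hZ _ he)
    rw [mul_inv_cancel_left] at h3
    exact (Subgroup.mem_centralizer_singleton_iff.mp h3).symm
  -- the kernel
  have hval : ∀ (h : ↥S.conj.ker) (m : ↥S.M), ⁅(h : G), (m : G)⁆ ∈ S.A := fun h m =>
    S.commutator_mem_of_conj (MonoidHom.mem_ker.mp h.2) m.2
  let χc : ↥S.M → ↥S.conj.ker →* Kˣ := fun m =>
    { toFun := fun h => S.χ ⟨⁅(h : G), (m : G)⁆, hval h m⟩
      map_one' := by
        rw [← map_one S.χ]
        exact congrArg S.χ (Subtype.ext (commutatorElement_one_left _))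
      map_mul' := fun h h' => by
        rw [← map_mul]
        refine congrArg S.χ (Subtype.ext ?_)
        show ⁅(h : G) * h', (m : G)⁆ = ⁅(h : G), (m : G)⁆ * ⁅(h' : G), (m : G)⁆
        calc ⁅(h : G) * h', (m : G)⁆ = ((h : G) * ⁅(h' : G), (m : G)⁆ * (h : G)⁻¹) * ⁅(h : G), (m : G)⁆ := by
              simp only [commutatorElement_def]; group
          _ = ⁅(h' : G), (m : G)⁆ * ⁅(h : G), (m : G)⁆ := by
              rw [S.commute_of_mem (hval h' m) (hC.symm ▸ Subgroup.mem_top (h : G)), mul_inv_cancel_right]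
          _ = _ := (S.commute_of_mem (hval h' m) (hC.symm ▸ Subgroup.mem_top _)).symm }
  have hsq : ∀ (h : ↥S.conj.ker) (m : ↥S.M), χc m h ^ 2 = 1 := by
    intro h m
    show S.χ _ ^ 2 = 1
    rw [← map_pow, ← map_one S.χ]
    refine congrArg S.χ (Subtype.ext ?_)
    show ⁅(h : G), (m : G)⁆ ^ 2 = 1
    have hcg := S.commute_of_mem (S.exponent _ m.2) (hC.symm ▸ Subgroup.mem_top (h : G))
    have hcm : Commute ⁅(h : G), (m : G)⁆ (m : G) := (S.hcen _ (hval h m) _ m.2).symm
    have h3 : ((h : G) * m * (h : G)⁻¹) ^ 2 = (m : G) ^ 2 := by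
      rw [conj_pow, hcg, mul_inv_cancel_right]
    rw [show (h : G) * m * (h : G)⁻¹ = ⁅(h : G), (m : G)⁆ * m by rw [commutatorElement_def]; group,
      hcm.mul_pow, mul_eq_right] at h3
    exact h3
  let ψ : ↥S.conj.ker →* ↥(rootsOfUnity 2 K) × ↥(rootsOfUnity 2 K) :=
    ((χc a).codRestrict _ fun h => (mem_rootsOfUnity 2 _).mpr (hsq h a)).prod
      ((χc b).codRestrict _ fun h => (mem_rootsOfUnity 2 _).mpr (hsq h b))
  have hroots : Nat.card ↥(rootsOfUnity 2 K) ∣ 2 := by
    have hle : Nat.card ↥(rootsOfUnity 2 K) ≤ 2 := card_rootsOfUnity K 2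
    have hpos : 0 < Nat.card ↥(rootsOfUnity 2 K) := Nat.card_pos
    interval_cases Nat.card ↥(rootsOfUnity 2 K) <;> decide
  have h4' : ψ.ker.index ∣ 4 := by
    rw [Subgroup.index_ker]
    refine (Subgroup.card_subgroup_dvd_card _).trans ?_
    rw [Nat.card_prod, show 4 = 2 * 2 from rfl]
    exact mul_dvd_mul hroots hroots
  have hker : Nat.card ↥ψ.ker ∣ Nat.card Kˣ := by
    rw [← Subgroup.card_map_of_injective (K := ψ.ker) S.conj.ker.subtype_injective]
    refine card_ker_dvd S hC h2 h4 ?_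
    rintro _ ⟨h, hh, rfl⟩
    have h1 : ψ h = 1 := hh
    refine hgen _ (commutatorElement_eq_one_iff_mul_comm.mp ?_)
      (commutatorElement_eq_one_iff_mul_comm.mp ?_)
    · have h5 : S.χ ⟨⁅(h : G), (a : G)⁆, hval h a⟩ = 1 :=
        congrArg (fun z => ((z.1 : ↥(rootsOfUnity 2 K)) : Kˣ)) h1
      rw [← map_one S.χ] at h5
      exact congrArg Subtype.val (S.χ_injective h5)
    · have h5 : S.χ ⟨⁅(h : G), (b : G)⁆, hval h b⟩ = 1 :=
        congrArg (fun z => ((z.2 : ↥(rootsOfUnity 2 K)) : Kˣ)) h1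
      rw [← map_one S.χ] at h5
      exact congrArg Subtype.val (S.χ_injective h5)
  have h7 : Nat.card ↥S.conj.ker ∣ Nat.card Kˣ * 4 := by
    rw [← Subgroup.card_mul_index ψ.ker]
    exact mul_dvd_mul hker h4'
  rw [← Subgroup.card_mul_index S.conj.ker]
  calc Nat.card ↥S.conj.ker * S.conj.ker.index ∣ Nat.card Kˣ * 4 * 6 := mul_dvd_mul h7 h6
    _ = 24 * Nat.card Kˣ := by ring

end Cfsg.Agent.SolvableTransitive
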