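import Cfsg.Agent.Lib.SolvableTransitive.Field
import Cfsg.Agent.Lib.SolvableTransitive.Abelian
import Cfsg.Agent.Lib.SolvableTransitive.Small
import Cfsg.Agent.Lib.SolvableTransitive.Arith

/-!
# Solvable transitive linear groups (Huppert)

* `selfCentralizing_or_exception` : a solvable group acting faithfully and transitively on the
  nonzero vectors of `V` has a self-centralizing abelian normal subgroup spanning a field over which
  `V` is one-dimensional, unless `|V|` is one of `3^2, 5^2, 7^2, 11^2, 23^2, 3^4`.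
-/

set_option autoImplicit false
set_option linter.style.haveILetI false

namespace Cfsg.Agent.SolvableTransitive

universe u v

variable {G : Type u} [Group G] [Finite G] {V : Type v} [AddCommGroup V] [DistribMulAction G V]
  [Finite V] [Nontrivial V]

theorem card_pred_dvd (htrans : ∀ a b : V, a ≠ 0 → b ≠ 0 → ∃ g : G, g • a = b) :
    Nat.card V - 1 ∣ Nat.card G := by
  obtain ⟨v₀, hv₀⟩ := exists_ne (0 : V)
  have horb : MulAction.orbit G v₀ = ({0} : Set V)ᶜ := by
    ext w
    rw [MulAction.mem_orbit_iff, Set.mem_compl_iff, Set.mem_singleton_iff]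
    exact ⟨fun ⟨g, hg⟩ h => hv₀ ((smul_eq_zero_iff_eq g).mp (hg.trans h)), htrans v₀ w hv₀⟩
  refine (?_ : Nat.card V - 1 = (MulAction.stabilizer G v₀).index) ▸ Subgroup.index_dvd_card _
  rw [MulAction.index_stabilizer, horb, Set.ncard_compl, Set.ncard_singleton]

variable [FaithfulSMul G V]

theorem selfCentralizing_or_exception (hsol : Group.IsSolvable G) {q : ℕ} (hq : q.Prime)
    (hV : ∀ v : V, q • v = 0) (htrans : ∀ a b : V, a ≠ 0 → b ≠ 0 → ∃ g : G, g • a = b) :
    (∃ A : Subgroup G, A.Normal ∧ IsMulCommutative ↥A ∧ Subgroup.centralizer (A : Set G) = A ∧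
      ∀ v w : V, v ≠ 0 → ∃ x ∈ spanRing V A, x v = w) ∨
    Nat.card V ∈ ({9, 25, 49, 121, 529, 81} : Set ℕ) := by
  classical
  haveI := Fact.mk hq
  obtain ⟨A, hAn, hA, hmax⟩ := exists_maximal_abelian_normal (G := G)
  have hF := isField_spanRing htrans hA (V := V)
  letI : Field ↥(spanRing V A) := hF.toField
  haveI : Finite (AddMonoid.End V) :=
    Finite.of_injective (fun f => (f : V → V)) DFunLike.coe_injective
  obtain ⟨v₀, hv₀⟩ := exists_ne (0 : V)
  have hq0 : (q : ↥(spanRing V A)) = 0 := Subtype.ext (AddMonoidHom.ext fun v => by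
    rw [show ((q : ↥(spanRing V A)) : AddMonoid.End V) = (q : AddMonoid.End V) from rfl]
    exact hV v)
  haveI : CharP ↥(spanRing V A) q := (CharP.charP_iff_prime_eq_zero hq).mpr hq0
  obtain ⟨d, hd⟩ : ∃ d, Nat.card ↥(spanRing V A) = q ^ d := by
    letI := ZMod.algebra ↥(spanRing V A) q
    exact ⟨_, by rw [Module.natCard_eq_pow_finrank (K := ZMod q), Nat.card_zmod]⟩
  have hd0 : 0 < d := by
    refine Nat.pos_of_ne_zero fun h => ?_
    rw [h, pow_zero] at hd
    exact absurd hd Finite.one_lt_card.ne'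
  set j := Module.finrank ↥(spanRing V A) V with hj
  have hcardV : Nat.card V = q ^ (d * j) := by
    rw [Module.natCard_eq_pow_finrank (K := ↥(spanRing V A)), hd, ← pow_mul]
  have hj0 : 0 < j := Module.finrank_pos
  set C := Subgroup.centralizer (A : Set G) with hC
  have hlin : ∀ g ∈ C, ∀ (c : ↥(spanRing V A)) (x : V), g • c • x = c • g • x :=
    fun g hg c x => DFunLike.congr_fun (spanRing_commute hg c.2) x
  by_cases hj1 : j = 1
  · refine Or.inl ⟨A, hAn, hA, hmax C inferInstance (fun g hg h hh => ?_)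
      (fun a ha b hb => congrArg Subtype.val (hA.is_comm.comm (⟨b, hb⟩ : ↥A) ⟨a, ha⟩)), fun v w hv => ?_⟩
    · refine eq_of_smul_eq_smul fun x : V => ?_
      obtain ⟨a, ha⟩ := (finrank_eq_one_iff_of_nonzero' v₀ hv₀).mp hj1 (g • v₀)
      obtain ⟨b, hb⟩ := (finrank_eq_one_iff_of_nonzero' v₀ hv₀).mp hj1 (h • v₀)
      obtain ⟨c, hc⟩ := (finrank_eq_one_iff_of_nonzero' v₀ hv₀).mp hj1 x
      rw [← hc, mul_smul, mul_smul, hlin h hh, ← hb, hlin g hg, hlin g hg, ← ha, hlin g hg, hlin h hh,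
        ← ha, hlin h hh, ← hb]
      simp only [← mul_smul, mul_comm, mul_left_comm]
    · obtain ⟨c, hc⟩ := (finrank_eq_one_iff_of_nonzero' v hv).mp hj1 w
      exact ⟨c, c.2, hc⟩
  refine Or.inr ?_
  have hj2 : 2 ≤ j := by omega
  have hGV := card_pred_dvd htrans (G := G)
  rw [hcardV] at hGV
  -- the scalars of `A`
  let χ : ↥A →* (↥(spanRing V A))ˣ :=
    MonoidHom.toHomUnits (((toEnd V).comp A.subtype).codRestrict (spanRing V A)
      fun a => toEnd_mem_spanRing a.2)
  have hχ : ∀ (a : ↥A) (x : V), (a : G) • x = ((χ a : (↥(spanRing V A))ˣ) : ↥(spanRing V A)) • x :=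
    fun a x => rfl
  have hunits : Nat.card (↥(spanRing V A))ˣ = q ^ d - 1 := by
    rw [Nat.card_units, hd]
  have hAcard : Nat.card ↥A ≤ q ^ d - 1 := hunits ▸ Nat.card_le_card_of_injective χ fun a b h =>
    Subtype.ext (eq_of_smul_eq_smul fun x : V => by rw [hχ, hχ, h])
  have hker := ker_galois (G := G) (V := V) A
  have hidx : C.index ∣ d := by rw [hC, ← hker]; exact index_dvd_of_ker q hd (galois V A)
  have hCA : C ≠ A := by
    intro h
    have h1 := Nat.le_of_dvd Nat.card_pos hGV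
    have h2 := Nat.mul_le_mul hAcard (Nat.le_of_dvd hd0 (h ▸ hidx))
    rw [Subgroup.card_mul_index] at h2
    have h3 : q ^ (d * 2) ≤ q ^ (d * j) := Nat.pow_le_pow_right hq.pos (Nat.mul_le_mul_left d hj2)
    have h4 : d < q ^ d := Nat.lt_pow_self hq.one_lt
    rw [pow_mul, sq] at h3
    have h5 : (q ^ d - 1) * d + q ^ d + 0 ≤ q ^ d * q ^ d := by
      obtain ⟨e, he⟩ : ∃ e, q ^ d = e + 1 := ⟨q ^ d - 1, by omega⟩
      rw [he] at h4 ⊢
      simp only [Nat.add_sub_cancel]
      nlinarith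
    have h6 : 2 ≤ q ^ d := le_trans hq.two_le (Nat.le_self_pow hd0.ne' q)
    omega
  obtain ⟨p, M, hp, hMn, hAM, hMA, hMC, hexp, hcomm, hcenter⟩ := exists_section hsol hA hmax hCA
  haveI := Fact.mk hp
  obtain ⟨S, hSA⟩ : ∃ S : ScalarSection G ↥(spanRing V A) V p, S.A = A :=
    ⟨⟨A, M, χ, hAn, hMn, hχ, hlin, hMC, hAM, hMA, hexp, hcomm, hcenter⟩, rfl⟩
  have hpq : p ≠ q := S.prime_ne_char q
  obtain ⟨i, hi1, hicard, hij⟩ := S.card_section
  have hpj : p ≤ j := le_trans (Nat.le_self_pow (by omega) p) hij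
  have hpd : p ∣ q ^ d - 1 := by
    obtain ⟨w, hw⟩ : ∃ w : S.W, w ≠ 1 := by
      have : Nontrivial S.W := Finite.one_lt_card_iff_nontrivial.mp
        (hicard ▸ Nat.one_lt_pow (by omega) hp.one_lt)
      exact exists_ne 1
    obtain ⟨u, -, hwu⟩ :=
      exists_pair (W := S.W) S.form S.halt S.hexp S.hnd (Subgroup.mem_top w) hw
    have ho : orderOf (S.form w u) = p :=
      orderOf_eq_prime (pow_eq_one_apply S.form S.halt S.hexp w u) hwu
    rw [← hunits, ← ho]
    exact orderOf_dvd_natCard _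
  have hqd1 : 2 ≤ q ^ d := le_trans hq.two_le (Nat.le_self_pow hd0.ne' q)
  by_cases hn2 : d * j = 2
  · -- dimension 2
    obtain rfl : d = 1 := by
      rcases Nat.eq_zero_or_pos (d - 1) with h | h
      · omega
      · have := Nat.mul_le_mul (show 2 ≤ d by omega) hj2
        omega
    have hj2' : j = 2 := by omega
    obtain rfl : p = 2 := le_antisymm (hj2' ▸ hpj) hp.two_le
    have hi : i = 1 := by
      have h : 2 ^ i ≤ 2 ^ 1 := by rw [pow_one]; exact hij.trans hj2'.le
      have := (Nat.pow_le_pow_iff_right (by norm_num : 1 < 2)).mp h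
      omega
    have hCtop : C = ⊤ := Subgroup.index_eq_one.mp (Nat.dvd_one.mp hidx)
    have h24 := hGV.trans (card_dvd_of_two S (by rw [hSA]; exact hCtop) hj2' (by rw [hicard, hi]; norm_num))
    rw [hunits, hn2, pow_one] at h24
    have hqq : q ^ 2 - 1 = (q + 1) * (q - 1) := by
      have := Nat.sq_sub_sq q 1
      simpa using this
    rw [hqq] at h24
    have hmem := mem_of_succ_dvd hq (fun h => hpq h.symm)
      ((Nat.mul_dvd_mul_iff_right (by have := hq.two_le; omega)).mp h24)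
    rw [hcardV, hn2]
    simp only [Set.mem_insert_iff, Set.mem_singleton_iff] at hmem ⊢
    rcases hmem with rfl | rfl | rfl | rfl | rfl <;> norm_num
  have hn3 : 3 ≤ d * j := by
    have := Nat.mul_le_mul (show 1 ≤ d from hd0) hj2
    omega
  -- a good prime
  have hgood : ∀ r : ℕ, r.Prime → d * j < r → r ∣ q ^ (d * j) - 1 →
      (∀ k, 0 < k → k < j → ¬ r ∣ (q ^ d) ^ k - 1) →
      d = 1 ∧ p = 2 ∧ j = 2 ^ i ∧ r = 2 ^ i + 1 ∧ ¬ r ^ 2 ∣ q ^ (d * j) - 1 := by
    intro r hr hrn hrd hrk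
    haveI := Fact.mk hr
    have hrd' : d < r := lt_of_le_of_lt (Nat.le_mul_of_pos_right d hj0) hrn
    have hrp : r ≠ p := by
      intro h
      have := Nat.le_mul_of_pos_left j hd0
      omega
    have hrK : (r : ↥(spanRing V A)) ≠ 0 := by
      rw [Ne, CharP.cast_eq_zero_iff _ q, Nat.prime_dvd_prime_iff_eq hq hr]
      rintro rfl
      have h1 := Nat.dvd_sub (dvd_pow_self q (by omega : d * j ≠ 0)) hrd
      rw [Nat.sub_sub_self (Nat.one_le_pow _ _ hq.pos)] at h1
      exact hq.ne_one (Nat.dvd_one.mp h1)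
    have hrk' : ∀ k, 0 < k → k < j → ¬ r ∣ Nat.card ↥(spanRing V A) ^ k - 1 := by
      rw [hd]; exact hrk
    have hmemC : ∀ g : G, g ^ r = 1 → g ∈ Subgroup.centralizer (S.A : Set G) := by
      intro g hg
      rw [hSA, ← hker, MonoidHom.mem_ker]
      haveI : Finite (↥(spanRing V A) ≃+* ↥(spanRing V A)) :=
        Nat.finite_of_card_ne_zero (by rw [(ringAut_facts q hd).1]; omega)
      have h1 : galois V A g ^ r = 1 := by rw [← map_pow, hg, map_one]
      have h2 : galois V A g ^ d = 1 := by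
        rw [← (ringAut_facts q hd).1]
        exact pow_card_eq_one'
      have h3 := pow_gcd_eq_one.mpr ⟨h1, h2⟩
      rwa [((Nat.Prime.coprime_iff_not_dvd hr).mpr (Nat.not_dvd_of_pos_of_lt hd0 hrd')).gcd_eq_one,
        pow_one] at h3
    obtain ⟨g, hg⟩ := exists_prime_orderOf_dvd_card' (G := G) r (hrd.trans hGV)
    have hgr : g ^ r = 1 := hg ▸ pow_orderOf_eq_one g
    have hg1 : g ≠ 1 := fun h => hr.ne_one (by rw [← hg, h, orderOf_one])
    obtain ⟨i', hi', hi'le, hri'⟩ := S.exists_dvd_of_orderOf hrp (hmemC g hgr) hgr hg1 hrK hrk'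
    rw [hicard] at hi'le
    have hii : i' ≤ i := by
      have := (Nat.pow_le_pow_iff_right hp.one_lt).mp hi'le
      omega
    have hfac : ∀ k, r ∣ p ^ (2 * k) - 1 → r ∣ p ^ k + 1 ∨ r ∣ p ^ k - 1 := by
      intro k h
      rw [mul_comm, pow_mul, show (p ^ k) ^ 2 - 1 = (p ^ k + 1) * (p ^ k - 1) by
        simpa using Nat.sq_sub_sq (p ^ k) 1] at h
      exact hr.dvd_mul.mp h
    have hpi' : p ≤ p ^ i' := Nat.le_self_pow (by omega) p
    have hpii : p ^ i' ≤ p ^ i := Nat.pow_le_pow_right hp.pos hii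
    have hp2' := hp.two_le
    have hle : r ≤ p ^ i' + 1 := by
      rcases hfac i' hri' with h | h
      · exact Nat.le_of_dvd (by omega) h
      · have := Nat.le_of_dvd (by omega) h
        omega
    have hdj : d * j ≤ j := by omega
    have hd1 : d = 1 := le_antisymm (Nat.le_of_mul_le_mul_right (by rwa [one_mul]) hj0) hd0
    subst hd1
    rw [one_mul] at hrn hn3
    have hpi : p ^ i' = p ^ i := by omega
    have hjp : j = p ^ i := by omega
    have hr' : r = p ^ i + 1 := by omega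
    obtain rfl : p = 2 := by
      rcases hp.eq_two_or_odd' with h | h
      · exact h
      · exfalso
        have : Even r := hr' ▸ (h.pow (n := i)).add_one
        have := (Nat.Prime.even_iff hr).mp this
        omega
    refine ⟨rfl, rfl, hjp, hr', fun hsq => ?_⟩
    have hsmall : ∀ k, 1 ≤ k → 2 ^ (2 * k) < Nat.card S.W → ¬ r ∣ 2 ^ (2 * k) - 1 := by
      intro k hk1 hk2 hdvd
      rw [hicard] at hk2
      have hki : k < i := by
        have := (Nat.pow_lt_pow_iff_right (by norm_num : 1 < 2)).mp hk2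
        omega
      have h3 : 2 ^ k < 2 ^ i := Nat.pow_lt_pow_right (by norm_num) hki
      have h4 : 2 ≤ 2 ^ k := Nat.le_self_pow (by omega) 2
      rcases hfac k hdvd with h | h <;>
      · have := Nat.le_of_dvd (by omega) h
        omega
    obtain ⟨P, hP⟩ := Sylow.exists_subgroup_card_pow_prime (G := G) r (hsq.trans hGV)
    have hfree : ∀ h : ↥P, ∀ x : S.W, x ≠ 1 → (S.conj.comp P.subtype) h x = x → h = 1 := by
      intro h x hx hfix
      by_contra hne
      have hdvd : orderOf (h : G) ∣ r ^ 2 := hP ▸ Subgroup.orderOf_coe h ▸ orderOf_dvd_natCard h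
      obtain ⟨k, hk, hk'⟩ := (Nat.dvd_prime_pow hr).mp hdvd
      rcases k with _ | k
      · rw [pow_zero, orderOf_eq_one_iff] at hk'
        exact hne (Subtype.ext hk')
      set z := (h : G) ^ (r ^ k) with hz
      have hzr : z ^ r = 1 := by rw [hz, ← pow_mul, ← pow_succ, ← hk', pow_orderOf_eq_one]
      have hz1 : z ≠ 1 := fun h1 => by
        have h2 := Nat.le_of_dvd (pow_pos hr.pos k) (orderOf_dvd_of_pow_eq_one h1)
        rw [hk', pow_succ] at h2
        have h3 := Nat.mul_le_mul_left (r ^ k) hr.two_le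
        have := pow_pos hr.pos k
        omega
      refine S.not_fixed_of_orderOf hrp (hmemC z hzr) hzr hz1 hrK hrk' hsmall hx ?_
      rw [hz, map_pow]
      have hall : ∀ m : ℕ, (S.conj (h : G) ^ m) x = x := by
        intro m
        induction m with
        | zero => rfl
        | succ m ih => rw [pow_succ', MulAut.mul_apply, ih]; exact hfix
      exact hall _
    have hdiv := card_dvd_pred_of_semiregular (S.conj.comp P.subtype) hfree
    rw [hP, hicard] at hdiv
    have h1 : 2 ^ (2 * i) - 1 = r * (2 ^ i - 1) := by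
      rw [hr', mul_comm, pow_mul]
      simpa using Nat.sq_sub_sq (2 ^ i) 1
    rw [h1, sq] at hdiv
    have h2 : 2 ≤ 2 ^ i := Nat.le_self_pow (by omega) 2
    have := Nat.le_of_dvd (by omega) (Nat.dvd_of_mul_dvd_mul_left hr.pos hdiv)
    omega
  obtain ⟨r, hr, hrn, hrd, hrk⟩ := exists_good_prime hq hp hn3 hpd hpj
  obtain ⟨rfl, rfl, hji, -, -⟩ := hgood r hr hrn hrd hrk
  rw [one_mul] at hn3 hcardV hgood
  have hi2 : 2 ≤ i := by
    by_contra! h
    interval_cases i
    omega
  have hexp2 : 2 ^ (i - 1) * 2 = 2 ^ i := by rw [← pow_succ, Nat.sub_add_cancel hi1]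
  obtain ⟨rfl, rfl⟩ := eq_three_four hq (fun h => hpq h.symm) hi2 fun s hs hs2 hsN => by
    haveI := Fact.mk hs
    have h1 : q ^ j - 1 = (q ^ 2 ^ (i - 1) + 1) * (q ^ 2 ^ (i - 1) - 1) := by
      rw [hji, ← hexp2, pow_mul]
      simpa using Nat.sq_sub_sq (q ^ 2 ^ (i - 1)) 1
    have hqs : ((q : ZMod s)) ^ 2 ^ (i - 1) = -1 := by
      have h2 := (CharP.cast_eq_zero_iff (ZMod s) s _).mpr hsN
      push_cast at h2
      exact eq_neg_of_add_eq_zero_left h2
    have hne : ¬ ((q : ZMod s)) ^ 2 ^ (i - 1) = 1 := by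
      rw [hqs]
      intro h
      have h2 : ((2 : ℕ) : ZMod s) = 0 := by linear_combination -h
      rw [CharP.cast_eq_zero_iff (ZMod s) s, Nat.prime_dvd_prime_iff_eq hs Nat.prime_two] at h2
      exact hs2 h2
    have ho : orderOf (q : ZMod s) = 2 ^ i := by
      rw [← Nat.sub_add_cancel hi1]
      refine orderOf_eq_prime_pow hne ?_
      rw [pow_succ, pow_mul, hqs, neg_one_sq]
    have hiff : ∀ k, s ∣ q ^ k - 1 → 2 ^ i ∣ k := fun k h => by
      rw [← ho]
      refine orderOf_dvd_of_pow_eq_one ?_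
      have h2 := (CharP.cast_eq_zero_iff (ZMod s) s _).mpr h
      rwa [Nat.cast_sub (Nat.one_le_pow _ _ hq.pos), Nat.cast_pow, Nat.cast_one, sub_eq_zero] at h2
    have hprim : ∀ k, 0 < k → k < j → ¬ s ∣ q ^ k - 1 := fun k h0 hk h => by
      have := Nat.le_of_dvd h0 (hiff k h)
      omega
    have hsd : s ∣ q ^ j - 1 := h1 ▸ dvd_mul_of_dvd_left hsN _
    obtain ⟨-, -, -, hs', hsq⟩ := hgood s hs (gt_of_primitive hj0 hq.one_lt hs hsd hprim) hsd
      (by simpa only [pow_one] using hprim)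
    exact ⟨hs', fun h => hsq (h1 ▸ dvd_mul_of_dvd_left h _)⟩
  rw [hcardV, hji]
  norm_num

end Cfsg.Agent.SolvableTransitive
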