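import Mathlib.RingTheory.LittleWedderburn
import Mathlib.GroupTheory.Perm.Cycle.Type
import Mathlib.LinearAlgebra.FiniteDimensional.Basic
import Mathlib.FieldTheory.Finiteness

/-!
# A linear map of prime order with no small invariant subspaces

* `eq_bot_or_eq_top_of_invariant` : if `X^r = 1`, `X ≠ 1` and `r` divides no `|K|^k - 1` for
  `0 < k < dim V`, then `X` has no proper invariant subspace.
* `mul_comm_of_commute` : the maps commuting with such an `X` commute with each other.
-/

set_option autoImplicit false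

namespace Cfsg.Agent.SolvableTransitive

universe u v

variable {K : Type u} [Field K] [Finite K] {V : Type v} [AddCommGroup V] [Module K V] [Finite V]

/-- A map of prime order `r` fixes a nonzero vector of each invariant subspace `U` with
`r ∤ |U| - 1`. -/
theorem exists_fixed_of_invariant {r : ℕ} [Fact r.Prime] (X : Module.End K V) (hX : X ^ r = 1)
    (U : Submodule K V) (hU : ∀ u ∈ U, X u ∈ U) (hcard : ¬ r ∣ Nat.card ↥U - 1) :
    ∃ u ∈ U, u ≠ 0 ∧ X u = u := by
  classical
  have hr0 : r - 1 + 1 = r := Nat.succ_pred_eq_of_pos (Fact.out (p := r.Prime)).pos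
  have hinj : Function.Injective X := fun a b h => by
    have h1 := congrArg ⇑(X ^ (r - 1)) h
    rwa [← Module.End.mul_apply, ← Module.End.mul_apply, ← pow_succ, hr0, hX,
      Module.End.one_apply, Module.End.one_apply] at h1
  set F : {u : ↥U // u ≠ 0} → {u : ↥U // u ≠ 0} := fun u => ⟨⟨X u.1, hU _ u.1.2⟩, fun h =>
    u.2 (Subtype.ext (hinj ((congrArg Subtype.val h).trans (map_zero X).symm)))⟩ with hF
  have hFb : Function.Bijective F := Finite.injective_iff_bijective.mp fun a b h =>
    Subtype.ext (Subtype.ext (hinj (congrArg (fun z => ((z.1 : ↥U) : V)) h)))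
  set τ : Equiv.Perm {u : ↥U // u ≠ 0} := Equiv.ofBijective F hFb with hτ
  have hτk : ∀ (k : ℕ) (a : {u : ↥U // u ≠ 0}), (((τ ^ k) a).1 : V) = (X ^ k) (a.1 : V) := by
    intro k
    induction k with
    | zero => intro a; rfl
    | succ k ih =>
      intro a
      rw [pow_succ', pow_succ', Equiv.Perm.mul_apply, Module.End.mul_apply, ← ih a]
      rfl
  have hτr : τ ^ r ^ 1 = 1 := by
    refine Equiv.ext fun a => Subtype.ext (Subtype.ext ?_)
    rw [pow_one, hτk, hX]
    rfl
  have := Fintype.ofFinite ↥U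
  have hc : ¬ r ∣ Fintype.card {u : ↥U // u ≠ 0} := by
    rw [Fintype.card_subtype_compl, Fintype.card_subtype_eq, ← Nat.card_eq_fintype_card]
    exact hcard
  obtain ⟨a, ha⟩ := Equiv.Perm.exists_fixed_point_of_prime hc hτr
  exact ⟨a.1, a.1.2, fun h => a.2 (Subtype.ext h), congrArg (fun z => ((z.1 : ↥U) : V)) ha⟩

variable {r : ℕ} [Fact r.Prime] (X : Module.End K V) (hX : X ^ r = 1) (hX1 : X ≠ 1)
  (hrK : (r : K) ≠ 0)
  (hr : ∀ k, 0 < k → k < Module.finrank K V → ¬ r ∣ Nat.card K ^ k - 1)

include hX hX1 hrK hr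

theorem eq_bot_or_eq_top_of_invariant (U : Submodule K V) (hU : ∀ u ∈ U, X u ∈ U) :
    U = ⊥ ∨ U = ⊤ := by
  have hcard : ∀ U : Submodule K V, U ≠ ⊥ → U ≠ ⊤ → ¬ r ∣ Nat.card ↥U - 1 := by
    intro U hb ht
    rw [Module.natCard_eq_pow_finrank (K := K)]
    exact hr _ (Nat.pos_of_ne_zero (Submodule.finrank_eq_zero.not.mpr hb)) (Submodule.finrank_lt ht)
  -- there are no fixed vectors
  have hfix : LinearMap.ker (X - 1) = ⊥ := by
    by_contra hne
    have hI1 : LinearMap.range (X - 1) ≠ ⊥ := fun h =>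
      hX1 (sub_eq_zero.mp (LinearMap.range_eq_bot.mp h))
    have hI2 : LinearMap.range (X - 1) ≠ ⊤ := fun h => hne
      (LinearMap.ker_eq_bot.mpr (LinearMap.injective_iff_surjective.mpr
        (LinearMap.range_eq_top.mp h)))
    obtain ⟨w, hw, hw0, hXw⟩ := exists_fixed_of_invariant X hX (LinearMap.range (X - 1))
      (by rintro _ ⟨v, rfl⟩; exact ⟨X v, by simp⟩) (hcard _ hI1 hI2)
    obtain ⟨v, hv⟩ := hw
    rw [LinearMap.sub_apply, Module.End.one_apply, sub_eq_iff_eq_add] at hv
    have hk : ∀ k : ℕ, (X ^ k) v = v + k • w := by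
      intro k
      induction k with
      | zero => simp
      | succ k ih =>
        rw [pow_succ', Module.End.mul_apply, ih, map_add, map_nsmul, hXw, hv, succ_nsmul]
        abel
    have h1 := hk r
    rw [hX, Module.End.one_apply, left_eq_add, ← Nat.cast_smul_eq_nsmul K, smul_eq_zero] at h1
    exact hw0 (h1.resolve_left hrK)
  by_contra hne
  obtain ⟨hb, ht⟩ := not_or.mp hne
  obtain ⟨u, -, hu0, hXu⟩ := exists_fixed_of_invariant X hX U hU (hcard U hb ht)
  have hmem : u ∈ LinearMap.ker (X - 1) := by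
    rw [LinearMap.mem_ker, LinearMap.sub_apply, Module.End.one_apply, hXu, sub_self]
  rw [hfix, Submodule.mem_bot] at hmem
  exact hu0 hmem

theorem mul_comm_of_commute [Nontrivial V] {S T : Module.End K V} (hS : Commute S X)
    (hT : Commute T X) : S * T = T * S := by
  set D := Subring.centralizer ({X} : Set (Module.End K V)) with hD
  have hmem : ∀ Y : Module.End K V, Y ∈ D ↔ Commute Y X := fun Y =>
    ⟨fun h => (Subring.mem_centralizer_iff.mp h X rfl).symm,
      fun h => Subring.mem_centralizer_iff.mpr fun g hg => by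
        rw [Set.mem_singleton_iff.mp hg]
        exact h.eq.symm⟩
  haveI : Finite (Module.End K V) :=
    Finite.of_injective (fun f => (f : V → V)) DFunLike.coe_injective
  haveI : NoZeroDivisors ↥D := ⟨fun {a b} h => by
    rcases eq_bot_or_eq_top_of_invariant X hX hX1 hrK hr (LinearMap.range (b : Module.End K V))
      (by
        rintro _ ⟨v, rfl⟩
        exact ⟨X v, LinearMap.congr_fun ((hmem _).mp b.2) v⟩) with hb | ht
    · exact Or.inr (Subtype.ext (LinearMap.range_eq_bot.mp hb))
    · refine Or.inl (Subtype.ext (LinearMap.ext fun v => ?_))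
      obtain ⟨w, rfl⟩ := LinearMap.range_eq_top.mp ht v
      exact LinearMap.congr_fun (congrArg Subtype.val h) w⟩
  haveI : IsDomain ↥D := NoZeroDivisors.to_isDomain _
  exact congrArg Subtype.val
    ((Finite.isDomain_to_isField ↥D).mul_comm ⟨S, (hmem S).mpr hS⟩ ⟨T, (hmem T).mpr hT⟩)

end Cfsg.Agent.SolvableTransitive
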