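import Cfsg.Agent.Lib.SolvableTransitive.Pairing
import Cfsg.Agent.Lib.SolvableTransitive.Isometry
import Cfsg.Agent.Lib.SolvableTransitive.Linear

/-!
# A class 2 section `M/A` of a linear group, `A` acting by scalars

Everything is stated for a `K`-module `V` on which `G` acts additively, the centralizer of `A`
linearly and `A` by scalars `χ`.

* `card_section` : `|M/A| = p^(2i)` with `p^i ≤ dim V`.
* `exists_dvd_of_orderOf`, `not_fixed_of_orderOf` : the consequences for elements of large prime
  order of the centralizer of `A`.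
* `card_dvd_of_two` : the bound on `G` in dimension 2.
-/

set_option autoImplicit false
set_option linter.unusedSectionVars false

namespace Cfsg.Agent.SolvableTransitive

open scoped commutatorElement

universe u v w

variable (G : Type u) [Group G] [Finite G] (K : Type w) [Field K] [Finite K] (V : Type v)
  [AddCommGroup V] [Module K V] [Finite V] [Nontrivial V] [DistribMulAction G V] [FaithfulSMul G V]

/-- The data of a class 2 section `M / A` with `A` scalar. -/
structure ScalarSection (p : ℕ) where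
  /-- The scalar subgroup. -/
  A : Subgroup G
  /-- The class 2 subgroup. -/
  M : Subgroup G
  /-- The scalars of `A`. -/
  χ : ↥A →* Kˣ
  normalA : A.Normal
  normalM : M.Normal
  scalar : ∀ (a : ↥A) (x : V), (a : G) • x = ((χ a : Kˣ) : K) • x
  linear : ∀ g ∈ Subgroup.centralizer (A : Set G), ∀ (c : K) (x : V), g • c • x = c • g • x
  le_centralizer : M ≤ Subgroup.centralizer (A : Set G)
  le : A ≤ M
  ne : M ≠ A
  exponent : ∀ x ∈ M, x ^ p ∈ A
  comm : ∀ x ∈ M, ∀ y ∈ M, ⁅x, y⁆ ∈ A
  center : ∀ x ∈ M, (∀ y ∈ M, x * y = y * x) → x ∈ A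

namespace ScalarSection

variable {G K V} {p : ℕ} (S : ScalarSection G K V p)

instance : S.A.Normal := S.normalA

instance : S.M.Normal := S.normalM

/-- The section `M / A`. -/
abbrev W : Type u := ↥S.M ⧸ S.A.subgroupOf S.M

theorem commute_of_mem {a g : G} (ha : a ∈ S.A) (hg : g ∈ Subgroup.centralizer (S.A : Set G)) :
    g * a = a * g :=
  (hg a ha).symm

theorem hcen : ∀ a ∈ S.A, ∀ x ∈ S.M, x * a = a * x :=
  fun _ ha _ hx => S.commute_of_mem ha (S.le_centralizer hx)

theorem χ_injective : Function.Injective S.χ := fun a b h =>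
  Subtype.ext (eq_of_smul_eq_smul fun x : V => by rw [S.scalar, S.scalar, h])

instance : CommGroup S.W :=
  { (inferInstance : Group S.W) with
    mul_comm := fun w w' => by
      obtain ⟨x, rfl⟩ := QuotientGroup.mk_surjective w
      obtain ⟨y, rfl⟩ := QuotientGroup.mk_surjective w'
      refine commutatorElement_eq_one_iff_mul_comm.mp ?_
      show ⁅QuotientGroup.mk' (S.A.subgroupOf S.M) x, QuotientGroup.mk' (S.A.subgroupOf S.M) y⁆ = 1
      rw [← map_commutatorElement]
      exact (QuotientGroup.eq_one_iff _).mpr (Subgroup.mem_subgroupOf.mpr (S.comm _ x.2 _ y.2)) }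

/-- The commutator pairing. -/
def form : S.W →* S.W →* Kˣ := commPairing S.A S.M S.χ S.comm S.hcen

theorem form_mk (x y : ↥S.M) :
    S.form (QuotientGroup.mk x) (QuotientGroup.mk y) = S.χ ⟨⁅(x : G), (y : G)⁆, S.comm _ x.2 _ y.2⟩ :=
  rfl

theorem halt : ∀ w : S.W, S.form w w = 1 := by
  intro w
  obtain ⟨x, rfl⟩ := QuotientGroup.mk_surjective w
  rw [S.form_mk, ← map_one S.χ]
  exact congrArg S.χ (Subtype.ext (commutatorElement_self _))

theorem hexp : ∀ w : S.W, w ^ p = 1 := by
  intro w
  obtain ⟨x, rfl⟩ := QuotientGroup.mk_surjective w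
  rw [← QuotientGroup.mk_pow, QuotientGroup.eq_one_iff, Subgroup.mem_subgroupOf]
  exact S.exponent _ x.2

theorem hnd : Nondeg S.form (⊤ : Subgroup S.W) := by
  intro w _ h
  obtain ⟨x, rfl⟩ := QuotientGroup.mk_surjective w
  rw [QuotientGroup.eq_one_iff, Subgroup.mem_subgroupOf]
  refine S.center _ x.2 fun y hy => commutatorElement_eq_one_iff_mul_comm.mp ?_
  have h1 := h (QuotientGroup.mk ⟨y, hy⟩) (Subgroup.mem_top _)
  rw [S.form_mk, ← map_one S.χ] at h1
  exact congrArg Subtype.val (S.χ_injective h1)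

include S in
theorem prime_ne_char [hp : Fact p.Prime] (q : ℕ) [CharP K q] : p ≠ q := by
  intro hpq
  haveI : CharP K p := hpq ▸ ‹CharP K q›
  refine S.ne (le_antisymm (fun x hx => S.center x hx fun y hy => ?_) S.le)
  refine commutatorElement_eq_one_iff_mul_comm.mp (congrArg Subtype.val (S.χ_injective (a₂ := 1)
    (show S.χ ⟨⁅x, y⁆, S.comm x hx y hy⟩ = S.χ 1 from ?_)))
  rw [map_one]
  have h : S.form (QuotientGroup.mk ⟨x, hx⟩) (QuotientGroup.mk ⟨y, hy⟩) ^ p = 1 := by
    rw [← MonoidHom.map_pow, S.hexp, map_one]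
  rw [S.form_mk] at h
  refine Units.ext (sub_eq_zero.mp (pow_eq_zero_iff hp.out.ne_zero |>.mp ?_))
  rw [sub_pow_char, ← Units.val_pow_eq_pow_val, h, Units.val_one, one_pow, sub_self]

/-- An element of the centralizer of `A`, as a linear map. -/
def op {g : G} (hg : g ∈ Subgroup.centralizer (S.A : Set G)) : Module.End K V where
  toFun x := g • x
  map_add' := smul_add g
  map_smul' c x := S.linear g hg c x

theorem op_injective {g : G} (hg : g ∈ Subgroup.centralizer (S.A : Set G)) :
    Function.Injective (S.op hg) := MulAction.injective g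

/-- The linear map of a representative. -/
noncomputable def repOp (w : S.W) : Module.End K V :=
  S.op (S.le_centralizer (QuotientGroup.mk_surjective w).choose.2)

theorem linearIndependent_repOp [Fact p.Prime] : LinearIndependent K S.repOp := by
  refine linearIndependent_of_twisted S.repOp (fun w => S.op_injective _)
    (fun y i => ((S.form y i : Kˣ) : K)) (fun y i => ?_) (fun i i' hne => ?_)
  · refine LinearMap.ext fun x => ?_
    set a : ↥S.M := (QuotientGroup.mk_surjective y).choose with ha
    set b : ↥S.M := (QuotientGroup.mk_surjective i).choose with hb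
    show (a : G) • (b : G) • x = ((S.form y i : Kˣ) : K) • (b : G) • (a : G) • x
    rw [← (QuotientGroup.mk_surjective y).choose_spec, ← (QuotientGroup.mk_surjective i).choose_spec,
      ← ha, ← hb, S.form_mk, ← S.scalar]
    simp only [smul_smul, commutatorElement_def]
    group
  · by_contra! hall
    refine hne (mul_inv_eq_one.mp (S.hnd _ (Subgroup.mem_top _) fun y _ => ?_))
    have h : S.form y (i * i'⁻¹) = 1 := by
      rw [map_mul, map_inv, Units.ext (hall y), mul_inv_cancel]
    have hs := skew S.form S.halt y (i * i'⁻¹)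
    rwa [h, one_mul] at hs

theorem card_le [Fact p.Prime] : Nat.card S.W ≤ Module.finrank K V * Module.finrank K V := by
  have := Fintype.ofFinite S.W
  have h := S.linearIndependent_repOp.fintype_card_le_finrank
  rw [Module.finrank_linearMap, ← Nat.card_eq_fintype_card] at h
  exact h

theorem card_section [hp : Fact p.Prime] :
    ∃ i, 1 ≤ i ∧ Nat.card S.W = p ^ (2 * i) ∧ p ^ i ≤ Module.finrank K V := by
  obtain ⟨i, hi⟩ := exists_card_eq_sq S.form S.halt S.hexp ⊤ S.hnd
  rw [Subgroup.card_top] at hi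
  have h2 : p ^ i * p ^ i ≤ Module.finrank K V * Module.finrank K V := by
    rw [← pow_add, ← two_mul, ← hi]
    exact S.card_le
  refine ⟨i, Nat.pos_of_ne_zero fun h0 => S.ne ?_, hi, Nat.mul_self_le_mul_self_iff.mp h2⟩
  rw [h0, mul_zero, pow_zero] at hi
  have := (Nat.card_eq_one_iff_unique.mp hi).1
  refine le_antisymm (fun x hx => ?_) S.le
  exact Subgroup.mem_subgroupOf.mp
    ((QuotientGroup.eq_one_iff (⟨x, hx⟩ : ↥S.M)).mp (Subsingleton.elim _ _))

/-- Conjugation on the section. -/
def conj : G →* MulAut S.W where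
  toFun g := QuotientGroup.congr _ _ (MulAut.conjNormal g) (by
    ext x
    simp only [Subgroup.mem_map, Subgroup.mem_subgroupOf]
    constructor
    · rintro ⟨y, hy, rfl⟩
      exact S.normalA.conj_mem _ hy g
    · intro hx
      refine ⟨(MulAut.conjNormal g).symm x, ?_, (MulAut.conjNormal g).apply_symm_apply x⟩
      rw [MulAut.conjNormal_symm_apply]
      simpa using S.normalA.conj_mem _ hx g⁻¹)
  map_one' := MulEquiv.ext fun w => by
    obtain ⟨x, rfl⟩ := QuotientGroup.mk_surjective w
    exact congrArg QuotientGroup.mk (DFunLike.congr_fun (map_one (MulAut.conjNormal (H := S.M))) x)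
  map_mul' g h := MulEquiv.ext fun w => by
    obtain ⟨x, rfl⟩ := QuotientGroup.mk_surjective w
    exact congrArg QuotientGroup.mk (DFunLike.congr_fun (map_mul (MulAut.conjNormal (H := S.M)) g h) x)

theorem conj_mk (g : G) (x : ↥S.M) :
    S.conj g (QuotientGroup.mk x) = QuotientGroup.mk (MulAut.conjNormal g x) := rfl

theorem commutator_mem_of_conj {g : G} (h : S.conj g = 1) {m : G} (hm : m ∈ S.M) : ⁅g, m⁆ ∈ S.A := by
  have h1 := DFunLike.congr_fun h (QuotientGroup.mk ⟨m, hm⟩)
  rw [S.conj_mk, MulAut.one_apply, eq_comm, QuotientGroup.eq, Subgroup.mem_subgroupOf] at h1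
  have h2 := S.normalA.conj_mem _ h1 m
  simp only [Subgroup.coe_mul, Subgroup.coe_inv, MulAut.conjNormal_apply] at h2
  rwa [show m * (m⁻¹ * (g * m * g⁻¹)) * m⁻¹ = ⁅g, m⁆ by rw [commutatorElement_def]; group] at h2

theorem form_conj {g : G} (hg : g ∈ Subgroup.centralizer (S.A : Set G)) (w w' : S.W) :
    S.form (S.conj g w) (S.conj g w') = S.form w w' := by
  obtain ⟨x, rfl⟩ := QuotientGroup.mk_surjective w
  obtain ⟨y, rfl⟩ := QuotientGroup.mk_surjective w'
  rw [S.conj_mk, S.conj_mk, S.form_mk, S.form_mk]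
  refine congrArg S.χ (Subtype.ext ?_)
  show ⁅((MulAut.conjNormal g x : ↥S.M) : G), ((MulAut.conjNormal g y : ↥S.M) : G)⁆ = ⁅(x : G), (y : G)⁆
  rw [MulAut.conjNormal_apply, MulAut.conjNormal_apply]
  calc ⁅g * x * g⁻¹, g * y * g⁻¹⁆ = g * ⁅(x : G), (y : G)⁆ * g⁻¹ := by
        simp only [commutatorElement_def]; group
    _ = _ := by rw [S.commute_of_mem (S.comm _ x.2 _ y.2) hg, mul_inv_cancel_right]

variable {r : ℕ} [Fact r.Prime] {g : G}

theorem conj_pow_eq_one (hgr : g ^ r = 1) : (S.conj g).toEquiv ^ r = 1 := by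
  have h := map_pow (MulAut.toPerm S.W) (S.conj g) r
  rw [← map_pow, hgr, map_one, map_one] at h
  exact h.symm

variable [Fact p.Prime] (hrp : r ≠ p) (hg : g ∈ Subgroup.centralizer (S.A : Set G)) (hgr : g ^ r = 1)
  (hg1 : g ≠ 1) (hrK : (r : K) ≠ 0)
  (hr : ∀ k, 0 < k → k < Module.finrank K V → ¬ r ∣ Nat.card K ^ k - 1)

include hrp hg hgr hg1 hrK hr

theorem conj_ne_one : S.conj g ≠ 1 := by
  intro hσ
  have hcom : ∀ m ∈ S.M, g * m = m * g := by
    intro m hm
    set a := ⁅g, m⁆ with ha
    have haA : a ∈ S.A := S.commutator_mem_of_conj hσ hm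
    have hga : g * a = a * g := S.commute_of_mem haA hg
    have hma : m * a = a * m := S.hcen a haA m hm
    have hconj : g * m * g⁻¹ = a * m := by rw [ha, commutatorElement_def]; group
    have hk : ∀ k : ℕ, g ^ k * m * (g ^ k)⁻¹ = a ^ k * m := by
      intro k
      induction k with
      | zero => simp
      | succ k ih =>
        calc g ^ (k + 1) * m * (g ^ (k + 1))⁻¹ = g * (g ^ k * m * (g ^ k)⁻¹) * g⁻¹ := by
              rw [pow_succ' g k, mul_inv_rev]; simp only [mul_assoc]
          _ = g * a ^ k * g⁻¹ * (g * m * g⁻¹) := by rw [ih]; group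
          _ = a ^ (k + 1) * m := by
              rw [(Commute.pow_right hga k).eq, mul_inv_cancel_right, hconj, pow_succ, mul_assoc]
    have har : a ^ r = 1 := by
      have h := hk r
      rw [hgr, one_mul, inv_one, mul_one, eq_comm, mul_eq_right] at h
      exact h
    have hap : a ^ p = 1 := by
      have h := hga
      have hmp : g * m ^ p = m ^ p * g := S.commute_of_mem (S.exponent m hm) hg
      have h2 : (g * m * g⁻¹) ^ p = g * m ^ p * g⁻¹ := conj_pow
      rw [hconj, (Commute.mul_pow (show Commute a m from hma.symm) p), hmp, mul_inv_cancel_right,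
        mul_eq_right] at h2
      exact h2
    have ha1 : a = 1 := by
      have h := pow_gcd_eq_one.mpr ⟨har, hap⟩
      rwa [Nat.coprime_primes (Fact.out) (Fact.out) |>.mpr hrp, pow_one] at h
    exact commutatorElement_eq_one_iff_mul_comm.mp ha1
  have hX : S.op hg ^ r = 1 := by
    have hk : ∀ (k : ℕ) (x : V), (S.op hg ^ k) x = g ^ k • x := by
      intro k
      induction k with
      | zero => intro x; rw [pow_zero, pow_zero, one_smul]; rfl
      | succ k ih => intro x; rw [pow_succ', Module.End.mul_apply, ih, pow_succ', mul_smul]; rfl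
    exact LinearMap.ext fun x => by rw [hk, hgr, one_smul]; rfl
  have hX1 : S.op hg ≠ 1 := fun h => hg1 (eq_of_smul_eq_smul fun x : V => by
    rw [one_smul]
    exact LinearMap.congr_fun h x)
  refine S.ne (le_antisymm (fun x hx => S.center x hx fun y hy => ?_) S.le)
  have hc : ∀ (m : G) (hm : m ∈ S.M), Commute (S.op (S.le_centralizer hm)) (S.op hg) := fun m hm =>
    LinearMap.ext fun v => by
      show m • g • v = g • m • v
      rw [← mul_smul, ← mul_smul, hcom m hm]
  refine eq_of_smul_eq_smul fun v : V => ?_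
  have h := LinearMap.congr_fun (mul_comm_of_commute _ hX hX1 hrK hr (hc x hx) (hc y hy)) v
  rw [mul_smul, mul_smul]
  exact h

theorem exists_dvd_of_orderOf :
    ∃ i, 1 ≤ i ∧ p ^ (2 * i) ≤ Nat.card S.W ∧ r ∣ p ^ (2 * i) - 1 := by
  by_contra! hall
  refine S.conj_ne_one hrp hg hgr hg1 hrK hr (MulEquiv.ext fun w => ?_)
  exact fixes_of_not_dvd S.form S.halt S.hexp hrp (S.conj g) (S.conj_pow_eq_one hgr) (S.form_conj hg)
    ⊤ S.hnd (fun x => by simp) (fun i h1 h2 => hall i h1 (by rwa [Subgroup.card_top] at h2)) w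
    (Subgroup.mem_top w)

theorem not_fixed_of_orderOf (hsmall : ∀ i, 1 ≤ i → p ^ (2 * i) < Nat.card S.W → ¬ r ∣ p ^ (2 * i) - 1)
    {w : S.W} (hw : w ≠ 1) : S.conj g w ≠ w := fun hfix =>
  S.conj_ne_one hrp hg hgr hg1 hrK hr (MulEquiv.ext
    (fixes_of_fixed S.form S.halt S.hexp hrp (S.conj g) (S.conj_pow_eq_one hgr) (S.form_conj hg) S.hnd
      hw hfix hsmall))

end ScalarSection

end Cfsg.Agent.SolvableTransitive
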